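import Cfsg.Agent.MK.T.A
import Cfsg.Agent.MK.S.Pc
import Mathlib.GroupTheory.SpecificGroups.Alternating

/-!
# The commutator factor group of a Sylow `2`-subgroup from a polycyclic certificate; `A₉`, `A₁₁` (helper55, MK)
-/

set_option autoImplicit false
set_option maxHeartbeats 400000

namespace Cfsg.Agent.MK.S5

open Subgroup Cfsg.Agent.MK.T Cfsg.Agent.MK.S.Pc Equiv

section gen

variable {G Γ : Type} [Group G] [Group Γ] {g : ℕ → Γ} {n m : ℕ}

/-- distinct keys of the normal forms give the lower bound -/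
theorem le_card_of_key [Finite Γ] {κ : Type} (key : Γ → κ)
    (h : ((List.range n).sublists.map fun w => key (ev g w)).Nodup) : 2 ^ n ≤ Nat.card (V g n 0) := by
  classical
  have h1 : ∀ w ∈ (List.range n).sublists, ev g w ∈ V g n 0 := fun w hw =>
    ev_mem fun i hi => mem_V (Nat.zero_le _) (List.mem_range.1 ((List.mem_sublists.1 hw).subset hi))
  have h2 : ((List.range n).sublists.map (ev g)).Nodup := by
    refine List.Nodup.of_map key ?_
    rwa [List.map_map]
  have h3 := List.toFinset_card_of_nodup h2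
  rw [List.length_map, List.length_sublists, List.length_range] at h3
  rw [← h3, ← Set.ncard_coe_finset]
  refine Set.ncard_le_ncard (t := (V g n 0 : Set Γ)) (fun x hx => ?_) (Set.toFinite _)
  obtain ⟨w, hw, rfl⟩ := List.mem_map.1 (List.mem_toFinset.1 hx)
  exact h1 w hw

theorem fact_two {m k : ℕ} (hm : Odd m) : (2 ^ k * m).factorization 2 = k := by
  have hm0 : m ≠ 0 := by rintro rfl; simp at hm
  rw [Nat.factorization_mul (pow_ne_zero _ (by norm_num)) hm0, Nat.Prime.factorization_pow Nat.prime_two,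
    Finsupp.add_apply, Finsupp.single_eq_same, Nat.factorization_eq_zero_of_not_dvd hm.not_two_dvd_nat]
  rfl

/-- a subgroup of the right order in the range of an embedding -/
theorem a2_of_sub [Finite Γ] (f : G →* Γ) (hf : Function.Injective f) (W : Subgroup Γ) (hW : W ≤ f.range)
    (hc : Nat.card W = 2 ^ n) {k : ℕ} (hk : Odd k) (hG : Nat.card G = 2 ^ n * k) : a2 G = ab W := by
  have := two_prime
  have : Finite G := Finite.of_injective f hf
  have e : W.comap f ≃* W :=
    ((W.comap f).equivMapOfInjective f hf).trans (MulEquiv.subgroupCongr (map_comap_eq_self hW))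
  have h1 : Nat.card (W.comap f) = 2 ^ (Nat.card G).factorization 2 := by
    rw [Nat.card_congr e.toEquiv, hc, hG, fact_two hk]
  rw [← ab_sylow (Sylow.ofCard _ h1)]
  exact ab_congr e

/-- **`a2` from a polycyclic sequence** -/
theorem a2_of_pc [Finite Γ] (f : G →* Γ) (hf : Function.Injective f) (h : PC g n m) (hc : 2 ^ n ≤ Nat.card (V g n 0))
    (hr : ∀ i < n, g i ∈ f.range) {k : ℕ} (hk : Odd k) (hG : Nat.card G = 2 ^ n * k) : a2 G = 2 ^ m := by
  rw [a2_of_sub f hf (V g n 0) (V_le fun i _ hi => hr i hi) (h.card_eq hc (Nat.zero_le n)) hk hG]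
  exact h.index hc

end gen

/-- the test of the equality of two words of permutations -/
def eqP {N : ℕ} (y : ℕ → Perm (Fin N)) (v w : List ℕ) : Bool :=
  (List.finRange N).all fun i => ev y v i == ev y w i

theorem eqP_ok {N : ℕ} (y : ℕ → Perm (Fin N)) (v w : List ℕ) (h : eqP y v w = true) : ev y v = ev y w :=
  Equiv.ext fun i => beq_iff_eq.1 (List.all_eq_true.1 h i (List.mem_finRange i))

/-- the list of the images -/
def keyP {N : ℕ} (σ : Perm (Fin N)) : List ℕ := (List.finRange N).map fun i => (σ i : ℕ)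

/-! ### `A₁₁` -/

def y11 : ℕ → Perm (Fin 11)
  | 0 => swap 0 4 * swap 1 5 * (swap 2 6 * swap 3 7)
  | 1 => swap 0 2 * swap 1 3
  | 2 => swap 0 1 * swap 8 9
  | 3 => swap 0 2 * swap 1 3 * (swap 4 6 * swap 5 7)
  | 4 => swap 0 1 * swap 4 5
  | 5 => swap 0 1 * swap 2 3
  | _ => swap 0 1 * swap 2 3 * (swap 4 5 * swap 6 7)

def c11 : Cert where
  gw := [[0], [1], [2], [3], [4], [5], [6]]
  sq := [[], [], [], [], [], [], []]
  cm := [[[], [3], [4], [], [], [6], []], [[], [], [5], [], [5], [], []], [[], [], [], [5], [], [], []],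
    [[], [], [], [], [6], [], []], [[], [], [], [], [], [], []], [[], [], [], [], [], [], []], [[], [], [], [], [], [], []]]
  dv := [([], [], []), ([], [], []), ([], [], []), ([1], [0], []), ([2], [0], []), ([4], [1], []), ([5], [0], [])]

theorem chk11 : ∀ i < 7, chk1 (eqP y11) 7 3 c11 i = true := by decide +kernel

theorem key11 : ((List.range 7).sublists.map fun w => keyP (ev (c11.el y11) w)).Nodup := by decide +kernel

theorem sign11 : ∀ i < 7, Perm.sign (c11.el y11 i) = 1 := by decide +kernel

theorem a2_alt11 : a2 (alternatingGroup (Fin 11)) = 8 := by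
  refine a2_of_pc (alternatingGroup (Fin 11)).subtype (subtype_injective _) (pc_of_chk (eqP_ok y11) (by norm_num) chk11)
    (le_card_of_key keyP key11) (fun i hi => ?_) (k := 155925) (by decide) ?_
  · rw [range_subtype]
    exact Perm.mem_alternatingGroup.2 (sign11 i hi)
  · have h := two_mul_nat_card_alternatingGroup (α := Fin 11)
    rw [Nat.card_perm, Nat.card_eq_fintype_card (α := Fin 11), Fintype.card_fin] at h
    have h2 : Nat.factorial 11 = 2 * (2 ^ 7 * 155925) := by decide
    omega

/-! ### `A₉` -/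

def y9 : ℕ → Perm (Fin 9)
  | 0 => swap 0 4 * swap 1 5 * (swap 2 6 * swap 3 7)
  | 1 => swap 0 2 * swap 1 3
  | 2 => swap 0 1 * swap 4 5
  | 3 => swap 0 2 * swap 1 3 * (swap 4 6 * swap 5 7)
  | 4 => swap 0 1 * swap 2 3
  | _ => swap 0 1 * swap 2 3 * (swap 4 5 * swap 6 7)

def c9 : Cert where
  gw := [[0], [1], [2], [3], [4], [5]]
  sq := [[], [], [], [], [], []]
  cm := [[[], [3], [], [], [5], []], [[], [], [4], [], [], []], [[], [], [], [5], [], []], [[], [], [], [], [], []],
    [[], [], [], [], [], []], [[], [], [], [], [], []]]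
  dv := [([], [], []), ([], [], []), ([], [], []), ([1], [0], []), ([2], [1], []), ([4], [0], [])]

theorem chk9 : ∀ i < 6, chk1 (eqP y9) 6 3 c9 i = true := by decide +kernel

theorem key9 : ((List.range 6).sublists.map fun w => keyP (ev (c9.el y9) w)).Nodup := by decide +kernel

theorem sign9 : ∀ i < 6, Perm.sign (c9.el y9 i) = 1 := by decide +kernel

theorem pc9 : PC (c9.el y9) 6 3 := pc_of_chk (eqP_ok y9) (by norm_num) chk9

theorem card_alt9 : Nat.card (alternatingGroup (Fin 9)) = 2 ^ 6 * 2835 := by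
  have h := two_mul_nat_card_alternatingGroup (α := Fin 9)
  rw [Nat.card_perm, Nat.card_eq_fintype_card (α := Fin 9), Fintype.card_fin] at h
  have h2 : Nat.factorial 9 = 2 * (2 ^ 6 * 2835) := by decide
  omega

theorem a2_alt9 : a2 (alternatingGroup (Fin 9)) = 8 := by
  refine a2_of_pc (alternatingGroup (Fin 9)).subtype (subtype_injective _) pc9
    (le_card_of_key keyP key9) (fun i hi => ?_) (k := 2835) (by decide) card_alt9
  rw [range_subtype]
  exact Perm.mem_alternatingGroup.2 (sign9 i hi)

end Cfsg.Agent.MK.S5
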