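import Cfsg.Agent.MK.T.B
import Cfsg.Agent.MK.S.Defs
import Cfsg.Agent.MK.S5.Alt

/-!
# MK, small rows: general lemmas (helper55)
-/

set_option autoImplicit false
set_option maxHeartbeats 400000

namespace Cfsg.Agent.MK.S5

open Subgroup Cfsg.Agent.MK.T

variable {G : Type} [Group G]

/-- a Sylow subgroup of a subgroup of odd index -/
theorem exists_sylow_map [Finite G] {C : Subgroup G} (hC : Odd C.index) (P : Sylow 2 C) :
    ∃ Q : Sylow 2 G, (Q : Subgroup G) = (P : Subgroup C).map C.subtype := by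
  have := two_prime
  have h1 : Nat.card ((P : Subgroup C).map C.subtype) = 2 ^ (Nat.card G).factorization 2 := by
    rw [card_map_of_injective (subtype_injective _), P.card_eq_multiplicity, ← card_mul_index C,
      Nat.factorization_mul Nat.card_pos.ne' C.index_ne_zero_of_finite, Finsupp.add_apply,
      Nat.factorization_eq_zero_of_not_dvd hC.not_two_dvd_nat, add_zero]
  exact ⟨Sylow.ofCard _ h1, rfl⟩

/-- a `2`-subgroup of a subgroup of odd index -/
theorem exists_sylow_between [Finite G] {C : Subgroup G} (hC : Odd C.index) {H : Subgroup C} (hH : IsPGroup 2 H) :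
    ∃ Q : Sylow 2 G, (Q : Subgroup G) ≤ C ∧ ∀ x ∈ H, (x : G) ∈ (Q : Subgroup G) := by
  have := two_prime
  obtain ⟨P, hP⟩ := hH.exists_le_sylow
  obtain ⟨Q, hQ⟩ := exists_sylow_map hC P
  refine ⟨Q, by rw [hQ]; exact map_subtype_le _, fun x hx => ?_⟩
  rw [hQ]
  exact ⟨x, hP hx, rfl⟩

theorem a2_odd_index [Finite G] {C : Subgroup G} (hC : Odd C.index) : a2 G = a2 C := by
  obtain ⟨Q, hQ⟩ := exists_sylow_map hC (default : Sylow 2 C)
  rw [← ab_sylow Q, hQ]
  exact (ab_congr (((default : Sylow 2 C) : Subgroup C).equivMapOfInjective _ (subtype_injective _))).symm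

/-- commuting involutions generate a `2`-group -/
theorem isPGroup_closure {s : Set G} (h1 : ∀ x ∈ s, x * x = 1) (h2 : ∀ x ∈ s, ∀ y ∈ s, x * y = y * x) :
    IsPGroup 2 (closure s) := by
  have hc : ∀ x ∈ closure s, ∀ y ∈ closure s, x * y = y * x := fun x hx y hy =>
    closure_induction₂ (p := fun x y _ _ => x * y = y * x) (fun x y hx hy => h2 x hx y hy) (fun _ _ => by simp) (fun _ _ => by simp)
      (fun a b c _ _ _ h3 h4 => by rw [mul_assoc, h4, ← mul_assoc, h3, mul_assoc])
      (fun a b c _ _ _ h3 h4 => by rw [← mul_assoc, h3, mul_assoc, h4, mul_assoc])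
      (fun a b _ _ h3 => (Commute.inv_left (a := a) (b := b) h3).eq)
      (fun a b _ _ h3 => (Commute.inv_right (a := a) (b := b) h3).eq) hx hy
  have hs : ∀ x ∈ closure s, x * x = 1 := fun x hx =>
    closure_induction (p := fun x _ => x * x = 1) h1 (by simp)
      (fun a b ha hb h3 h4 => by rw [mul_assoc, ← mul_assoc b, ← hc a ha b hb, mul_assoc, h4, mul_one, h3])
      (fun a _ h3 => by rw [← mul_inv_rev, h3, inv_one]) hx
  exact fun x => ⟨1, Subtype.ext (by simpa [pow_two] using hs x x.2)⟩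

theorem center_eq_bot [IsSimpleGroup G] (h : ∃ a b : G, a * b ≠ b * a) : center G = ⊥ := by
  rcases (inferInstance : (center G).Normal).eq_bot_or_eq_top with h1 | h1
  · exact h1
  · obtain ⟨a, b, hab⟩ := h
    exact absurd (mem_center_iff.1 (h1 ▸ mem_top b) a) hab

theorem index_one (h : ∀ α : MulAut G, ∃ k, α = MulAut.conj k) : (MulAut.conj : G →* MulAut G).range.index = 1 :=
  index_eq_one.2 (eq_top_iff.2 fun α _ => (h α).imp fun _ hk => hk.symm)

end Cfsg.Agent.MK.S5
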