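import Cfsg.Agent.MK.S5.Gen
import Cfsg.Agent.MK.T.C
import Cfsg.Agent.MK.L.Ree
import Cfsg.Agent.TAB.J1.Main
import Cfsg.Agent.OddHalf.D4.Spor.J1Out

/-!
# MK, the small row of the first Janko group (helper55)

The Sylow `2`-subgroup is elementary abelian of order eight and its own centraliser.
-/

set_option autoImplicit false
set_option maxHeartbeats 400000

namespace Cfsg.Agent.MK.S5

open Subgroup Cfsg.Agent.MK.T Cfsg.Agent.MK.S Cfsg.Agent.OddHalf.D4.Spor.J1Out

/-- **the row of `J₁`** -/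
theorem j1 : SmS Spor.J1 := fun _ => by
  have := two_prime
  have := TAB.J1.finite
  have hs : IsSimpleGroup Spor.J1 := SporadicB.J1.Main.isJ1.1
  let Q : Sylow 2 Spor.J1 := Sylow.ofCard EE (card_EE.trans card_pow)
  have hQ : ∀ {x}, x ∈ (Q : Subgroup Spor.J1) ↔ ∃ i, f i = x := mem_EE
  refine sm_of_one (center_eq_bot ⟨nn, f 1, fun e => ?_⟩) (index_one inn) (M0.of_one Q ?_)
  · have h1 := nn_conj 1
    rw [e, mul_inv_cancel_right] at h1
    exact absurd (f_inj h1) (by decide)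
  · have : (Q.subtype (le_normalizer (H := Q.toSubgroup))).toSubgroup.Normal := normal_in_normalizer (H := Q.toSubgroup)
    rw [k0_of_degList TAB.J1.deg, L.k0_eight (Q.subtype le_normalizer) ?_ (fun x hx => ?_) fun x hx => ?_]
    · decide
    · rw [Sylow.coe_subtype, Nat.card_congr (subgroupOfEquivOfLe le_normalizer).toEquiv]
      exact card_EE
    · obtain ⟨i, hi⟩ := hQ.1 hx
      exact Subtype.ext (by rw [coe_mul, coe_one, ← f_sq i, hi]; rfl)
    · obtain ⟨i, hi⟩ := centE (g := x) fun i =>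
        (congrArg Subtype.val (mem_centralizer_iff.1 hx ⟨f i, le_normalizer (hQ.2 ⟨i, rfl⟩)⟩ (hQ.2 ⟨i, rfl⟩))).symm
      exact hQ.2 ⟨i, hi.symm⟩

end Cfsg.Agent.MK.S5
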