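import Cfsg.Agent.MK.S5.Gen
import Cfsg.Agent.MK.T.C
import Cfsg.Agent.H240.CommP
import Cfsg.Agent.QTNorm.SporJ4
import Cfsg.Agent.KFacts.J4.SheetJ4
import Cfsg.Agent.TAB.Sm2.M24
import Cfsg.Agent.TAB.J4.Main

/-!
# MK, the small row of `J₄` (helper55)

`N = 2¹¹ : M₂₄` has odd index; a Sylow `2`-subgroup `P` of `N` has `|E : [E, P]| = 2`.
-/

set_option autoImplicit false
set_option maxHeartbeats 400000

namespace Cfsg.Agent.MK.S5

open Subgroup Cfsg.Agent.MK.T Cfsg.Agent.MK.S

namespace JFour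

open Cfsg.Agent.J4Type Cfsg.Agent.SporadicA.GolayBase Cfsg.Agent.SporadicA.GolayPerm Cfsg.Agent.SporadicA.OctadStab
  Cfsg.Agent.SporadicA.OctadFix
open scoped Pointwise symmDiff commutatorElement

/-- a group which fixes the point `4` and is regular on the reference octad -/
def regL : List ℕ := [984818244535754528103549039458486304, 735548533734033527546468929854573569,
  596654750537752186788767474980520034, 222848521963869917746636076779308099, 154011290965101378516425393633478085,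
  112512365560916772520529720748072110, 56695015769111532757791832671721201, 15117508407112800457924638987696695]

theorem regL_ok : ∀ P ∈ regL, isPerm P = true ∧ isAut P = true ∧ papp P 4 = 4 ∧ pimg P 8536111 = 8536111 ∧
    (∀ i < 24, papp P (papp P i) = i) ∧ ∀ Q ∈ regL, ∀ i < 24, papp P (papp Q i) = papp Q (papp P i) := by
  decide +kernel

theorem regL_hit : ∀ i < 24, Nat.testBit 8536111 i = true → ∃ P ∈ regL, papp P 0 = i := by decide +kernel

/-- the regular group -/
def regS : Set (Equiv.Perm GolayPt) := {g | ∃ P, ∃ h : P ∈ regL, g = permOf P (regL_ok P h).1}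

/-- a `2`-subgroup of `M₂₄` with two orbits -/
theorem exists_T : ∃ T : Subgroup (Equiv.Perm GolayPt), IsPGroup 2 T ∧
    (∀ p ∈ oct0, ∃ g ∈ T, g ∈ M24 ∧ g (pt 4) = pt 4 ∧ g (pt 0) = p) ∧
    ∀ q ∉ oct0, ∃ g ∈ T, g ∈ M24 ∧ g (pt 0) = pt 0 ∧ g (pt 4) = q := by
  have := two_prime
  have h1 : IsPGroup 2 (closure regS) := by
    refine isPGroup_closure ?_ ?_
    · rintro _ ⟨P, h, rfl⟩
      ext1 x
      apply idx_injective
      rw [Equiv.Perm.mul_apply, idx_permOf, idx_permOf]
      exact (regL_ok P h).2.2.2.2.1 _ (idx_lt x)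
    · rintro _ ⟨P, h, rfl⟩ _ ⟨Q, h', rfl⟩
      ext1 x
      apply idx_injective
      rw [Equiv.Perm.mul_apply, Equiv.Perm.mul_apply, idx_permOf, idx_permOf, idx_permOf, idx_permOf]
      exact (regL_ok P h).2.2.2.2.2 Q h' _ (idx_lt x)
  have h2 : IsPGroup 2 (fixOct oct0) := IsPGroup.of_card (n := 4) card_fixOct_oct0
  have h3 : closure regS ≤ normalizer ((fixOct oct0 : Subgroup (Equiv.Perm GolayPt)) : Set (Equiv.Perm GolayPt)) := by
    rw [closure_le]
    rintro _ ⟨P, h, rfl⟩
    rw [SetLike.mem_coe, mem_normalizer_iff]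
    intro g
    have h4 : permOf P (regL_ok P h).1 • oct0 = oct0 := by
      rw [oct0, smul_fin, (regL_ok P h).2.2.2.1]
    have h5 := conj_mem_fixOct (o := oct0) (g := g) (permOf_mem_M24 (regL_ok P h).1 (regL_ok P h).2.1)
    rw [h4] at h5
    exact h5.symm
  refine ⟨_, h1.to_sup_of_normal_right' h2 h3, fun p hp => ?_, fun q hq => ?_⟩
  · obtain ⟨P, h, e⟩ := regL_hit _ (idx_lt p) (mem_oct0.1 hp)
    refine ⟨_, mem_sup_left (subset_closure ⟨P, h, rfl⟩), permOf_mem_M24 (regL_ok P h).1 (regL_ok P h).2.1, ?_, ?_⟩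
    · apply idx_injective
      rw [idx_permOf, idx_pt_four, (regL_ok P h).2.2.1]
    · apply idx_injective
      rw [idx_permOf, idx_pt (by norm_num), e]
  · obtain ⟨g, h4, h5, h6, -⟩ := exists_trans hq
    exact ⟨g, mem_sup_right (mem_fixOct.2 ⟨h4, h5⟩), h4, h5 _ (mem_oct0.2 (by rw [idx_pt (by norm_num)]; decide)), h6⟩

theorem even_pair (p q : GolayPt) : Even (({p} : Finset GolayPt) ∆ {q}).card := by
  by_cases h : p = q
  · rw [h, symmDiff_self]
    simp
  · have e : ({p} : Finset GolayPt) ∆ {q} = {p, q} := by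
      ext x
      simp only [Finset.mem_symmDiff, Finset.mem_singleton, Finset.mem_insert]
      constructor
      · rintro (h1 | h1)
        exacts [Or.inl h1.1, Or.inr h1.1]
      · rintro (rfl | rfl)
        exacts [Or.inl ⟨rfl, h⟩, Or.inr ⟨rfl, Ne.symm h⟩]
    rw [e, Finset.card_pair h]
    decide

variable {G : Type} [Group G] (C : Frame G)

/-- the element of a pair -/
def pr (p q : GolayPt) : G := C.ε (({p} : Finset GolayPt) ∆ {q})

theorem pr_mem (p q : GolayPt) : pr C p q ∈ C.E hex0 := C.ε_mem _ (even_pair p q)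

theorem pr_mul (p q r : GolayPt) : pr C p q * pr C q r = pr C p r := by
  rw [pr, pr, pr, ← C.ε_mul _ _ (even_pair p q) (even_pair q r), symmDiff_assoc, symmDiff_symmDiff_cancel_left]

theorem pr_symm (p q : GolayPt) : pr C p q = pr C q p := by rw [pr, pr, symmDiff_comm]

theorem pr_self (p : GolayPt) : pr C p p = 1 := mul_eq_left.1 (pr_mul C p p p)

theorem pr_conj (n : normalizer (C.E hex0 : Set G)) (p q : GolayPt) :
    (n : G) * pr C p q * (n : G)⁻¹ = pr C ((C.π n : Equiv.Perm GolayPt) p) ((C.π n : Equiv.Perm GolayPt) q) := by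
  rw [pr, C.π_smul n _ (even_pair p q), Finset.smul_finset_symmDiff, Finset.smul_finset_singleton,
    Finset.smul_finset_singleton]
  rfl

/-- the pairs generate `E` -/
theorem E_le {K : Subgroup G} (h : ∀ p q, pr C p q ∈ K) : C.E hex0 ≤ K := by
  have key : ∀ (n : ℕ) (S : Finset GolayPt), S.card = 2 * n → C.ε S ∈ K := by
    intro n
    induction n with
    | zero =>
      intro S hS
      have h1 := h none none
      rwa [pr, symmDiff_self, Finset.bot_eq_empty, ← Finset.card_eq_zero.1 hS] at h1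
    | succ n ih =>
      intro S hS
      obtain ⟨p, hp, q, hq, hpq⟩ := Finset.one_lt_card.1 (by omega : 1 < S.card)
      have h1 : ((S.erase p).erase q).card = 2 * n := by
        rw [Finset.card_erase_of_mem (Finset.mem_erase.2 ⟨hpq.symm, hq⟩), Finset.card_erase_of_mem hp]
        omega
      have e : S = ((S.erase p).erase q) ∆ (({p} : Finset GolayPt) ∆ {q}) := by
        ext x
        simp only [Finset.mem_symmDiff, Finset.mem_erase, Finset.mem_singleton]
        by_cases h2 : x = p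
        · subst h2
          simp [hp, hpq]
        · by_cases h3 : x = q
          · subst h3
            simp [hq, h2]
          · simp [h2, h3]
      rw [e, C.ε_mul _ _ (by rw [h1]; exact even_two_mul n) (even_pair p q)]
      exact mul_mem (ih _ h1) (h p q)
  intro a ha
  obtain ⟨S, ⟨n, hn⟩, rfl⟩ := C.ε_surj a ha
  exact key n S (by omega)

theorem card_ker : Nat.card C.π.ker = 2 ^ 11 := by
  rw [← C.E_card hex0 HexStab.isHex_hex0, ← Nat.card_congr (subgroupOfEquivOfLe (le_normalizer (H := C.E hex0))).toEquiv]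
  congr 2
  ext n
  rw [MonoidHom.mem_ker, C.π_ker, mem_subgroupOf]

theorem exists_P [Finite G] : ∃ P : Sylow 2 (normalizer (C.E hex0 : Set G)),
    ⁅C.π.ker, (P : Subgroup (normalizer (C.E hex0 : Set G)))⁆.relIndex C.π.ker = 2 := by
  have := two_prime
  obtain ⟨T, hT, h1, h2⟩ := exists_T
  have hV : IsPGroup 2 C.π.ker := IsPGroup.of_card (card_ker C)
  obtain ⟨P, hP⟩ := ((hT.comap_subtype (K := M24)).comap_of_ker_isPGroup C.π hV).exists_le_sylow
  refine ⟨P, ?_⟩
  set W := ⁅C.π.ker, (P : Subgroup (normalizer (C.E hex0 : Set G)))⁆ with hW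
  have hWV : W ≤ C.π.ker := commutator_le_left _ _
  let e : GolayPt → GolayPt → normalizer (C.E hex0 : Set G) := fun p q => ⟨pr C p q, le_normalizer (pr_mem C p q)⟩
  have he : ∀ p q, e p q ∈ C.π.ker := fun p q => (C.π_ker _).2 (pr_mem C p q)
  have h3 : ∀ g ∈ T, g ∈ M24 → ∀ p q, g q = q → e p (g p) ∈ W := by
    intro g hg hg' p q hq
    obtain ⟨n, hn⟩ := C.π_surj ⟨g, hg'⟩
    have h4 : n ∈ (P : Subgroup _) := hP (by rw [mem_comap, hn]; exact hg)
    have h5 : e p (g p) = ⁅e p q, n⁆ := by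
      apply Subtype.ext
      have h6 : (pr C p q)⁻¹ = pr C q p := inv_eq_of_mul_eq_one_right (by rw [pr_mul, pr_self])
      have h7 := pr_conj C n q p
      rw [hn] at h7
      show pr C p (g p) = pr C p q * n * (pr C p q)⁻¹ * (n : G)⁻¹
      rw [h6, mul_assoc, mul_assoc, ← mul_assoc (n : G), h7]
      show pr C p (g p) = pr C p q * pr C (g q) (g p)
      rw [hq, pr_mul]
    rw [h5]
    exact commutator_mem_commutator (he p q) h4
  have h4 : Nat.card C.π.ker ≤ 2 * Nat.card W := by
    refine Pc.card_ext (a := e (pt 0) (pt 4)) ?_ (fun x hx => ?_) fun K hK ha => ?_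
    · have h5 : e (pt 0) (pt 4) * e (pt 0) (pt 4) = 1 :=
        Subtype.ext ((C.E_elem hex0 HexStab.isHex_hex0).1 _ (pr_mem C _ _))
      rw [h5]
      exact one_mem W
    · have h5 : e (pt 0) (pt 4) * x = x * e (pt 0) (pt 4) :=
        Subtype.ext ((C.E_elem hex0 HexStab.isHex_hex0).2 _ (pr_mem C _ _) _ ((C.π_ker x).1 (hWV hx)))
      rwa [h5, mul_inv_cancel_right]
    · have h5 : ∀ p, e (pt 0) p ∈ K := by
        intro p
        by_cases hp : p ∈ oct0
        · obtain ⟨g, hg, hg', h6, rfl⟩ := h1 p hp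
          exact hK (h3 g hg hg' _ _ h6)
        · obtain ⟨g, hg, hg', h6, rfl⟩ := h2 p hp
          have h7 : e (pt 0) (g (pt 4)) = e (pt 0) (pt 4) * e (pt 4) (g (pt 4)) := Subtype.ext (pr_mul C _ _ _).symm
          rw [h7]
          exact mul_mem ha (hK (h3 g hg hg' _ _ h6))
      have h6 : C.E hex0 ≤ K.map (normalizer (C.E hex0 : Set G)).subtype := E_le C fun p q => by
        rw [← pr_mul C p (pt 0) q, pr_symm C p]
        exact mul_mem ⟨_, h5 p, rfl⟩ ⟨_, h5 q, rfl⟩
      intro x hx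
      obtain ⟨y, hy, hyx⟩ := h6 ((C.π_ker x).1 hx)
      rwa [← show y = x from Subtype.ext hyx]
  have h5 : W.relIndex C.π.ker ≠ 1 := fun h => by
    have h6 := H240.CommP.eq_bot_of_le_commutator hV P.2 (le_top.trans (normalizer_eq_top C.π.ker).ge)
      (relIndex_eq_one.1 h)
    have h7 := card_ker C
    rw [h6, card_bot] at h7
    omega
  have h6 := card_mul_index (W.subgroupOf C.π.ker)
  rw [Nat.card_congr (subgroupOfEquivOfLe hWV).toEquiv] at h6
  have h7 : 0 < Nat.card W := Nat.card_pos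
  have h8 : 0 < Nat.card C.π.ker := Nat.card_pos
  change Nat.card W * W.relIndex C.π.ker = _ at h6
  generalize W.relIndex C.π.ker = r at h5 h6
  rw [← h6] at h4 h8
  have h9 : r ≤ 2 := Nat.le_of_mul_le_mul_left (h4.trans_eq (mul_comm _ _)) h7
  have h10 : r ≠ 0 := by
    rintro rfl
    omega
  omega

theorem a2_N [Finite G] (C : J4Type.Compl G) : a2 (normalizer (C.E hex0 : Set G)) = a2 M24 * 2 := by
  have := two_prime
  obtain ⟨P, hP⟩ := exists_P C.toFrame
  have hV : IsPGroup 2 C.π.ker := IsPGroup.of_card (card_ker C.toFrame)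
  have h1 := a2_split C.π (C.φ.codRestrict _ C.φ_mem) C.π_φ hV P
  rwa [hP] at h1

end JFour

/-- **the row of `J₄`** -/
theorem j4 : SmS Spor.J4 := fun ih => by
  obtain ⟨hf, hs, ⟨F⟩⟩ := KFacts.J4.Base.exists_full (K := Spor.J4) ⟨MulEquiv.refl _⟩
  have hc : Nat.card Spor.J4 = 86775571046077562880 := TAB.J4.card_J4
  have h1 := card_mul_index (normalizer (F.C.E J4Type.hex0 : Set Spor.J4))
  rw [QTNorm.JFour.card_N F.C.toFrame, hc] at h1
  have h2 : (normalizer (F.C.E J4Type.hex0 : Set Spor.J4)).index = 173067389 := by omega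
  have h3 : a2 M24 = 16 := by
    rw [← ih.k0_eq (by rw [hc, SporadicA.M24Trans.card_M24]; norm_num) (QTNorm.selfN_m24 ⟨MulEquiv.refl _⟩),
      k0_of_degList TAB.Sm2.M24.deg]
    decide
  refine sm_of_one ?_ (index_one (KFacts.J4.SheetJ4.inner F))
    ((m0_iff (QTNorm.JFour.selfN_j4 ⟨MulEquiv.refl _⟩)).2 ?_)
  · rcases (inferInstance : (center Spor.J4).Normal).eq_bot_or_eq_top with h4 | h4
    · exact h4
    · have h5 : normalizer (F.C.E J4Type.hex0 : Set Spor.J4) = ⊤ := eq_top_iff.2 fun x _ =>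
        center_le_normalizer _ (h4 ▸ mem_top x)
      rw [h5, index_top] at h2
      omega
  · rw [a2_odd_index (C := normalizer (F.C.E J4Type.hex0 : Set Spor.J4)) (by rw [h2]; decide), JFour.a2_N (G := Spor.J4) F.C, h3,
      k0_of_degList TAB.J4.deg]
    decide

end Cfsg.Agent.MK.S5
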