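import Cfsg.Agent.MK.S5.Gen
import Cfsg.Agent.TypeM.FactsLy
import Cfsg.Agent.TypeM.OutLyFin
import Cfsg.Agent.H799.MTSyl
import Cfsg.Agent.TAB.Ly.Main

/-!
# MK, the small row of the Lyons group (helper55)
-/

set_option autoImplicit false
set_option maxHeartbeats 400000

namespace Cfsg.Agent.MK.S5

open Subgroup Cfsg.Agent.MK.T Cfsg.Agent.MK.S Cfsg.Agent.TypeM.Two Cfsg.Agent.H799.MTSyl Equiv
open scoped commutatorElement

theorem ab_of_surj {Q R : Type} [Group Q] [Group R] (f : Q →* R) (hf : Function.Surjective f)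
    (h : f.ker ≤ _root_.commutator Q) : ab Q = ab R := by
  have h1 : (_root_.commutator Q).map f = _root_.commutator R := by
    rw [_root_.commutator, _root_.commutator, map_commutator, map_top_of_surjective f hf]
  rw [ab, ab, ← h1, ← index_comap_of_surjective _ hf, comap_map_eq_self h]

/-- the kernel lies in the commutator subgroup of a Sylow subgroup -/
theorem a2_of_ker {H L : Type} [Group H] [Finite H] [Group L] (π : H →* L) (hs : Function.Surjective π) (P : Sylow 2 H)
    (h : ∀ x : (P : Subgroup H), π x = 1 → x ∈ _root_.commutator (P : Subgroup H)) : a2 H = a2 L := by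
  have := two_prime
  have : Finite L := Finite.of_surjective π hs
  rw [← ab_sylow P, ← ab_sylow (P.mapSurjective hs)]
  exact ab_of_surj (π.subgroupMap (P : Subgroup H)) (π.subgroupMap_surjective _)
    fun x hx => h x (congrArg Subtype.val hx)

/-- a group with the involution centraliser `2.A_n` -/
theorem a2_cent {n : ℕ} {G : Type} [Group G] [Finite G] (L : MT (n + 4) G) :
    a2 (centralizer ({L.t} : Set G)) = a2 (alternatingGroup (Fin (n + 4))) := by
  have := two_prime
  have h01 : (0 : Fin (n + 4)) ≠ 1 := fun h => by simpa using congrArg Fin.val h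
  have h02 : (0 : Fin (n + 4)) ≠ ⟨2, by omega⟩ := fun h => by simpa using congrArg Fin.val h
  have h03 : (0 : Fin (n + 4)) ≠ ⟨3, by omega⟩ := fun h => by simpa using congrArg Fin.val h
  have h12 : (1 : Fin (n + 4)) ≠ ⟨2, by omega⟩ := fun h => by simpa using congrArg Fin.val h
  have h13 : (1 : Fin (n + 4)) ≠ ⟨3, by omega⟩ := fun h => by simpa using congrArg Fin.val h
  have h23 : (⟨2, by omega⟩ : Fin (n + 4)) ≠ ⟨3, by omega⟩ := fun h => by simpa using congrArg Fin.val h
  obtain ⟨g, hg⟩ := L.K.exists_lift (SporRec.TwoAn.Cover.swap_mul_swap_mem _ _ _ _ h01 h23)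
  obtain ⟨k, hk⟩ := L.K.exists_lift (SporRec.TwoAn.Cover.swap_mul_swap_mem _ _ _ _ h02 h13)
  have h1 := L.K.anticomm h01 h02 h03 h12 h13 h23 hg hk
  have hgg : L.K.π g * L.K.π g = 1 := by rw [← map_mul, L.K.dbl _ _ _ _ h01 h02 h03 h12 h13 h23 g hg, L.K.π_z]
  have hkk : L.K.π k * L.K.π k = 1 := by
    rw [← map_mul, L.K.dbl _ _ _ _ h02 h01 h03 h12.symm h23 h13 k hk, L.K.π_z]
  have hgk : L.K.π k * L.K.π g = L.K.π g * L.K.π k := by rw [← map_mul, h1, map_mul, L.K.π_z, mul_one, map_mul]
  have h2 : IsPGroup 2 (closure ({L.K.π g, L.K.π k} : Set (Perm (Fin (n + 4))))) := by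
    refine isPGroup_closure ?_ ?_
    · rintro x (rfl | rfl)
      exacts [hgg, hkk]
    · rintro x (rfl | rfl) y (rfl | rfl)
      exacts [rfl, hgk.symm, hgk, rfl]
  have h3 : IsPGroup 2 L.K.π.ker := fun x => ⟨1, Subtype.ext (by
    rcases (L.K.ker x).1 x.2 with h | h
    · simp [h]
    · simp [h, pow_two, L.K.z_mul_z])⟩
  obtain ⟨P, hP⟩ := (h2.comap_of_ker_isPGroup _ h3).exists_le_sylow
  have hgP : g ∈ (P : Subgroup _) := hP (subset_closure (Or.inl rfl))
  have hkP : k ∈ (P : Subgroup _) := hP (subset_closure (Or.inr rfl))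
  refine a2_of_ker (proj L) (proj_surj L) P fun x hx => ?_
  rcases (proj_ker L x).1 hx with h | h
  · rw [show x = 1 from Subtype.ext h]
    exact one_mem _
  · have h4 := commutator_mem_commutator (mem_top (⟨k, hkP⟩ : (P : Subgroup _))⁻¹) (mem_top (⟨g, hgP⟩ : (P : Subgroup _))⁻¹)
    have e : x = ⁅(⟨k, hkP⟩ : (P : Subgroup _))⁻¹, (⟨g, hgP⟩ : (P : Subgroup _))⁻¹⁆ := by
      apply Subtype.ext
      rw [h, commutatorElement_def, inv_inv, inv_inv]
      show L.K.z = k⁻¹ * g⁻¹ * k * g
      rw [mul_assoc, h1]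
      group
    rw [e]
    exact h4

theorem card_cent {n : ℕ} {G : Type} [Group G] [Finite G] (L : MT n G) :
    Nat.card (centralizer ({L.t} : Set G)) = 2 * Nat.card (alternatingGroup (Fin n)) := by
  classical
  have h1 := card_mul_index (proj L).ker
  have h2 : (proj L).ker = zpowers L.K.z := by
    ext x
    rw [MonoidHom.mem_ker, proj_ker, mem_zpowers_iff_mem_range_orderOf, L.K.orderOf_z]
    simp [Finset.range_add_one, or_comm]
  rw [index_ker, MonoidHom.range_eq_top.2 (proj_surj L), card_top, h2, Nat.card_zpowers, L.K.orderOf_z] at h1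
  exact h1.symm

/-- **the row of `Ly`** -/
theorem ly : SmS Spor.Ly := fun _ => by
  obtain ⟨hf, hs, hc, ⟨L⟩⟩ := TypeM.FactsLy.facts (M := Spor.Ly) ⟨MulEquiv.refl _⟩
  have h1 := card_mul_index (centralizer ({L.t} : Set Spor.Ly))
  rw [card_cent L, hc, nat_card_alternatingGroup, Nat.card_eq_fintype_card, Fintype.card_fin,
    show Nat.factorial 11 = 39916800 by decide] at h1
  have h2 : (centralizer ({L.t} : Set Spor.Ly)).index = 1296826875 := by omega
  refine sm_of_one ?_ (index_eq_one.2 (eq_top_iff.2 fun α _ => TypeM.OutLyFin.inner_ly α))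
    ((m0_iff fun T => normalizer_le (by norm_num) (by norm_num) L T).2 ?_)
  · rcases (inferInstance : (center Spor.Ly).Normal).eq_bot_or_eq_top with h3 | h3
    · exact h3
    · have h4 : centralizer ({L.t} : Set Spor.Ly) = ⊤ := eq_top_iff.2 fun x _ =>
        mem_centralizer_singleton_iff.2 (mem_center_iff.1 (h3 ▸ mem_top L.t) x)
      rw [h4, index_top] at h2
      omega
  · rw [a2_odd_index (C := centralizer ({L.t} : Set Spor.Ly)) (by rw [h2]; decide), a2_cent (n := 7) L, a2_alt11,
      k0_of_degList TAB.Ly.deg]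
    decide

end Cfsg.Agent.MK.S5
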