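import Cfsg.Agent.MK.T.A
import Cfsg.Agent.TAB.ON.Cov

/-!
# The number of the faithful characters of odd degree of a cover (helper55, MK)

The faithful characters vanish at the elements whose image has order divisible by `p`.  Explicit rows of norm one, twisted
by the central character, are irreducible characters up to sign.
-/

set_option autoImplicit false
set_option maxHeartbeats 400000

namespace Cfsg.Agent.MK.S5.Cov

open Cfsg Subgroup Cfsg.Agent.TAB.Eng Cfsg.Agent.TAB.ON Cfsg.Agent.Characters Cfsg.Agent.Characters.Core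
open Cfsg.Agent.Characters.Brauer Cfsg.Agent.H447.CTab Cfsg.Agent.H622.Over
open scoped ComplexConjugate

/-- orthonormal integral vectors -/
theorem exists_pos {I J : Type} [Fintype I] (n : J → I → ℤ) (h1 : ∀ j, ∑ i, n j i * n j i = 1)
    (h2 : ∀ j k, j ≠ k → ∑ i, n j i * n k i = 0) :
    ∃ σ : J → I, Function.Injective σ ∧ (∀ j, n j (σ j) * n j (σ j) = 1) ∧ ∀ j i, i ≠ σ j → n j i = 0 := by
  classical
  have key : ∀ j, ∃ i, n j i * n j i = 1 ∧ ∀ i', i' ≠ i → n j i' = 0 := by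
    intro j
    obtain ⟨i, -, hi⟩ := Finset.exists_ne_zero_of_sum_ne_zero (s := Finset.univ) (f := fun i => n j i * n j i)
      (by rw [h1]; exact one_ne_zero)
    have h3 := h1 j
    rw [← Finset.add_sum_erase _ _ (Finset.mem_univ i)] at h3
    have h4 : 0 ≤ ∑ x ∈ Finset.univ.erase i, n j x * n j x := Finset.sum_nonneg fun _ _ => mul_self_nonneg _
    have h5 : 0 < n j i * n j i := lt_of_le_of_ne (mul_self_nonneg _) (Ne.symm hi)
    refine ⟨i, by omega, fun i' hi' => mul_self_eq_zero.1 ?_⟩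
    exact (Finset.sum_eq_zero_iff_of_nonneg fun _ _ => mul_self_nonneg _).1 (by omega : ∑ x ∈ Finset.univ.erase i,
      n j x * n j x = 0) i' (Finset.mem_erase.2 ⟨hi', Finset.mem_univ _⟩)
  choose σ h3 h4 using key
  refine ⟨σ, fun j k e => by_contra fun hjk => ?_, h3, h4⟩
  have h5 := h2 j k hjk
  rw [Finset.sum_eq_single (σ j) (fun i _ hi => by rw [h4 j i hi, zero_mul]) (fun h => absurd (Finset.mem_univ _) h)] at h5
  rcases mul_eq_zero.1 h5 with h6 | h6
  · have h7 := h3 j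
    rw [h6] at h7
    omega
  · have h7 := h3 k
    rw [← e, h6] at h7
    omega

section rows

variable {G : Type} [Group G] [Fintype G] {D : Dat} {T : TD G D} {p : ℕ} {A θ : G → ℂ}

theorem int_row (h : Hy p A θ) {rows us : List (List ℤ)} (hr : ∀ r ∈ rows, Virt T (nth r))
    (hu : ∀ u ∈ us, ∃ z : ℤ, inn T A (nth u) = z) {x : ℤ × List (ℤ × ℕ) × List (ℤ × ℕ)} (hc : okE D p rows us x = true) :
    ∃ z : ℤ, inn T A (nth (rowC rows us x)) = z := by
  rw [okE, Bool.and_eq_true] at hc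
  obtain ⟨a, ha⟩ := int_comb hu x.2.1
  obtain ⟨b, hb⟩ := h.int_sing (Virt.comb hr x.2.2) fun s hs =>
    of_decide_eq_true (allL_spec hc.2 s (List.mem_range.2 hs))
  refine ⟨a + b, ?_⟩
  rw [show nth (rowC rows us x) = fun s => 1 * nth (comb us x.2.1) s + nth (comb rows x.2.2) s from
    funext fun s => by rw [one_mul, rowC, nth_addL], inn_lin, ha, hb]
  push_cast
  ring

theorem even_sum {β : Type} (c : β → ℤ) (f : β → ℕ → ℤ) (l : List β) (h1 : ∀ x ∈ l, ∃ z : ℤ, inn T A (f x) = z)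
    (h2 : ∀ x ∈ l, 2 ∣ c x ∨ inn T A (f x) = 0) : ∃ z : ℤ, inn T A (fun s => (l.map fun x => c x * f x s).sum) = 2 * z := by
  induction l with
  | nil => exact ⟨0, inn_zero.trans (by simp)⟩
  | cons x l ih =>
    obtain ⟨z, hz⟩ := ih (fun y hy => h1 y (List.mem_cons_of_mem _ hy)) fun y hy => h2 y (List.mem_cons_of_mem _ hy)
    obtain ⟨a, ha⟩ := h1 x List.mem_cons_self
    simp only [List.map_cons, List.sum_cons]
    rw [inn_lin, hz]
    rcases h2 x List.mem_cons_self with ⟨d, hd⟩ | h3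
    · exact ⟨d * a + z, by rw [hd, ha]; push_cast; ring⟩
    · exact ⟨z, by rw [h3]; simp⟩

end rows

section cover

variable {X G : Type} [Group X] [Group G] {φ : X →* G} {p k : ℕ}

/-- the situation -/
structure Su (φ : X →* G) (p k : ℕ) : Prop where
  surj : Function.Surjective φ
  cen : φ.ker ≤ center X
  card : Nat.card φ.ker = p
  dvd : p ∣ k
  md : ∀ g : G, ¬ p ∣ orderOf g → g ^ k = g

open Classical in
/-- the central character of the `p`-part -/
noncomputable def ka (k : ℕ) (c : φ.ker →* ℂˣ) (x : X) : ℂ := if h : (x ^ k)⁻¹ * x ∈ φ.ker then (c ⟨_, h⟩ : ℂ) else 0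

/-- the twisted row -/
noncomputable def tw (k : ℕ) (c : φ.ker →* ℂˣ) (u : G → ℂ) (x : X) : ℂ := u (φ x) * ka k c x

namespace Su

variable (S : Su φ p k) (c : φ.ker →* ℂˣ)
include S

theorem pow_mul (x : X) (z : φ.ker) : (x * z) ^ k = x ^ k := by
  obtain ⟨m, rfl⟩ := S.dvd
  have h2 : (z : X) ^ p = 1 := congrArg Subtype.val (S.card ▸ pow_card_eq_one' : z ^ p = 1)
  rw [(show Commute x z from mem_center_iff.1 (S.cen z.2) x).mul_pow, _root_.pow_mul (z : X), h2, one_pow, mul_one]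

theorem mem {x : X} (h : ¬ p ∣ orderOf (φ x)) : (x ^ k)⁻¹ * x ∈ φ.ker := by
  rw [MonoidHom.mem_ker, map_mul, map_inv, map_pow, S.md _ h, inv_mul_cancel]

theorem ka_mul (x : X) (z : φ.ker) : ka k c (x * z) = ka k c x * c z := by
  have e : ((x * z) ^ k)⁻¹ * (x * z) = (x ^ k)⁻¹ * x * z := by rw [S.pow_mul, mul_assoc]
  unfold ka
  by_cases h : (x ^ k)⁻¹ * x ∈ φ.ker
  · rw [dif_pos h, dif_pos (e ▸ mul_mem h z.2), ← Units.val_mul, ← map_mul]
    exact congrArg (fun y => (c y : ℂ)) (Subtype.ext e)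
  · rw [dif_neg h, dif_neg fun h1 => h ((mul_mem_cancel_right z.2).1 (e ▸ h1)), zero_mul]

theorem ka_conj (x y : X) : ka k c (y * x * y⁻¹) = ka k c x := by
  have e : ((y * x * y⁻¹) ^ k)⁻¹ * (y * x * y⁻¹) = y * ((x ^ k)⁻¹ * x) * y⁻¹ := by
    rw [conj_pow]
    group
  unfold ka
  by_cases h : (x ^ k)⁻¹ * x ∈ φ.ker
  · have e' : ((y * x * y⁻¹) ^ k)⁻¹ * (y * x * y⁻¹) = (x ^ k)⁻¹ * x := by
      rw [e, mem_center_iff.1 (S.cen h) y, mul_inv_cancel_right]
    rw [dif_pos h, dif_pos (e' ▸ h)]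
    exact congrArg (fun y => (c y : ℂ)) (Subtype.ext e')
  · rw [dif_neg h, dif_neg fun h1 => h ((inferInstance : φ.ker.Normal).mem_comm_iff.1 ?_)]
    rw [e] at h1
    have h2 := (inferInstance : φ.ker.Normal).conj_mem _ h1 y⁻¹
    rw [show y⁻¹ * (y * ((x ^ k)⁻¹ * x) * y⁻¹) * y⁻¹⁻¹ = (x ^ k)⁻¹ * x by group] at h2
    exact (inferInstance : φ.ker.Normal).mem_comm h2

theorem tw_lies (u : G → ℂ) : Lies φ.ker c (tw k c u) := fun x z => by
  rw [tw, tw, S.ka_mul, map_mul, MonoidHom.mem_ker.1 z.2, mul_one, mul_assoc]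

theorem tw_class {u : G → ℂ} (hu : IsClassFunction G u) : IsClassFunction X (tw k c u) := fun x y => by
  rw [tw, tw, S.ka_conj, map_mul, map_mul, map_inv, hu]

omit S in
theorem tw_one (u : G → ℂ) : tw k c u 1 = u 1 := by
  have h : ((1 : X) ^ k)⁻¹ * 1 ∈ φ.ker := by simp
  have e : (⟨_, h⟩ : φ.ker) = 1 := Subtype.ext (by simp)
  rw [tw, ka, dif_pos h, e, map_one, map_one, Units.val_one, mul_one]

open Classical in
/-- the values at the lifts of order prime to `p` -/
noncomputable def lf (f : X → ℂ) (g : G) : ℂ := if p ∣ orderOf g then 0 else f (Function.surjInv S.surj g ^ k)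

theorem surjInv_pow (x : X) : Function.surjInv S.surj (φ x) ^ k = x ^ k := by
  have h : x⁻¹ * Function.surjInv S.surj (φ x) ∈ φ.ker := by
    rw [MonoidHom.mem_ker, map_mul, map_inv, Function.surjInv_eq S.surj, inv_mul_cancel]
  rw [← S.pow_mul x ⟨_, h⟩, mul_inv_cancel_left]

variable {c}

theorem eq_lf {f : X → ℂ} (hf : Lies φ.ker c f) (hv : ∀ x, p ∣ orderOf (φ x) → f x = 0) (x : X) :
    f x = tw k c (S.lf f) x := by
  rw [tw, lf]
  split_ifs with h
  · rw [hv x h, zero_mul]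
  · rw [S.surjInv_pow, ka, dif_pos (S.mem h), ← hf, mul_inv_cancel_left]

variable [Fintype X] [Fintype G]

theorem inner_tw {u v : G → ℂ} (hu : ∀ g, p ∣ orderOf g → u g = 0) :
    classInner (tw k c u) (tw k c v) = classInner u v := by
  rw [← H829.GowDesc.classInner_comp_surj φ S.surj, classInner_def, classInner_def]
  congr 1
  refine Finset.sum_congr rfl fun x _ => ?_
  simp only [tw, Function.comp_apply, map_mul]
  by_cases h : p ∣ orderOf (φ x)
  · rw [hu _ h, zero_mul, zero_mul, zero_mul]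
  · rw [ka, dif_pos (S.mem h)]
    linear_combination u (φ x) * conj (v (φ x)) * hom_mul_conj c ⟨_, S.mem h⟩

theorem hy {χ : X → ℂ} (hχ : IsIrrCharacter X χ) (hf : Lies φ.ker c χ) (hv : ∀ x, p ∣ orderOf (φ x) → χ x = 0) :
    Hy p (S.lf χ) fun g => χ (Function.surjInv S.surj g ^ k) := by
  have hg := isIrr_isCharacter hχ
  refine ⟨H55.PQ.gen_descend φ S.surj (H139.Cusp.isGeneralizedCharacter_pow
      (isGeneralizedCharacter_of_isCharacter hg) k) fun x => by rw [S.surjInv_pow], H55.PQ.gen_descend φ S.surj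
      (isGeneralizedCharacter_of_isCharacter (isCharacter_mul hg (isCharacter_conj hg))) fun x => ?_,
    fun g h => if_neg h, fun g h => if_pos h⟩
  rw [Pi.mul_apply, S.eq_lf hf hv x, tw]
  by_cases h : p ∣ orderOf (φ x)
  · rw [lf, if_pos h]
    simp
  · rw [ka, dif_pos (S.mem h), map_mul]
    linear_combination -(S.lf χ (φ x) * conj (S.lf χ (φ x)) * hom_mul_conj c ⟨_, S.mem h⟩)

end Su

end cover

/-- the check of the rows of norm one -/
noncomputable def okN (D : Dat) (p : ℕ) (R : List (List ℤ)) : Bool :=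
  allL (fun r => allL (fun s => decide (p ∣ D.ord s → nth r s = 0)) (List.range D.n) && decide (nth r 0 % 2 = 1) &&
    decide (ip D r r = D.N * 1) && allL (fun r' => decide (r = r' ∨ ip D r r' = D.N * 0)) R) R && decide R.Nodup

/-- **the number of the characters of odd degree over a faithful central character** -/
theorem card_of_check {X G : Type} [Group X] [Finite X] [Group G] [Finite G] {D : Dat} {T : TD G D} (φ : X →* G)
    (hφ : Function.Surjective φ) (hZ : φ.ker ≤ center X) {p k : ℕ} (hk : Nat.card φ.ker = p) (hm : T.Mass)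
    {rows : List (List ℤ)} (hr : ∀ r ∈ rows, Virt T (nth r)) {U : List (List ℤ × ℕ × ℕ × List (ℤ × ℕ))}
    (hU : ∀ x ∈ U, One T x.2.1) {l l' : List (ℤ × List (ℤ × ℕ) × List (ℤ × ℕ))} (hc : okC D p k rows U (l ++ l') = true)
    (hn : okN D p (l.map (rowC rows (U.map Prod.fst))) = true) (h2 : ∀ x ∈ l', 2 ∣ x.1) (c : φ.ker →* ℂˣ)
    (hv : ∀ χ, IsIrrCharacter X χ → Lies φ.ker c χ → ∀ x, p ∣ orderOf (φ x) → χ x = 0) :
    Nat.card {χ : X → ℂ // OI X χ ∧ Lies φ.ker c χ} = l.length := by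
  classical
  have := Fintype.ofFinite G
  have := Fintype.ofFinite X
  have := finite_irr (G := X)
  have := Fintype.ofFinite (IrrCharacter X)
  simp only [okC, Bool.and_eq_true, decide_eq_true_eq] at hc
  obtain ⟨⟨⟨c1, c2⟩, c3⟩, c4, c5, c6⟩ := hc
  have c7 := fun g => of_decide_eq_true (allL_spec c3 (T.ty g) (List.mem_range.2 (T.lt g)))
  have S : Su φ p k := ⟨hφ, hZ, hk, c4, fun g h => by
    rw [← pow_mod_orderOf, T.ord, (c7 g).1.resolve_left (T.ord _ ▸ h), ← T.ord, pow_mod_orderOf, pow_one]⟩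
  set R := l.map (rowC rows (U.map Prod.fst)) with hR
  rw [okN, Bool.and_eq_true] at hn
  have n0 : R.Nodup := of_decide_eq_true hn.2
  have n1 := fun r hr => allL_spec hn.1 r hr
  simp only [Bool.and_eq_true, decide_eq_true_eq] at n1
  have h6 : T.ty 1 = 0 := (c7 1).2.1.1 (by rw [← T.ord, orderOf_one])
  let V : List ℤ → X → ℂ := fun r => tw k c fun g => (nth r (T.ty g) : ℂ)
  have hV : ∀ r, IsClassFunction X (V r) := fun r => S.tw_class c fun g h => by rw [T.conj]
  have hin : ∀ χ, IsIrrCharacter X χ → Lies φ.ker c χ → ∀ r, classInner χ (V r) = inn T (S.lf χ) (nth r) :=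
    fun χ hχ hl r => by
      conv_lhs => rw [funext (S.eq_lf hl (hv χ hχ hl))]
      exact S.inner_tw fun g h => if_pos h
  have hint : ∀ χ, IsIrrCharacter X χ → Lies φ.ker c χ → ∀ x ∈ l ++ l', ∃ z : ℤ,
      inn T (S.lf χ) (nth (rowC rows (U.map Prod.fst) x)) = z := fun χ hχ hl x hx =>
    int_row (S.hy hχ hl (hv χ hχ hl)) hr (fun u hu => by
      obtain ⟨y, hy, rfl⟩ := List.mem_map.1 hu
      exact (S.hy hχ hl (hv χ hχ hl)).int_u hm hr (hU y hy) (allL_spec c1 y hy)) (allL_spec c2 x hx)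
  have hz : ∀ (χ : IrrCharacter X) (r : List ℤ), ¬ Lies φ.ker c (χ : X → ℂ) → classInner (χ : X → ℂ) (V r) = 0 :=
    fun χ r h => by
      obtain ⟨d, hd⟩ := exists_hom hZ χ.2
      exact classInner_eq_zero hd (S.tw_lies c _) fun e => h (e ▸ hd)
  have hex : ∀ (r : {r // r ∈ R}) (χ : IrrCharacter X), ∃ z : ℤ, classInner (χ : X → ℂ) (V r) = z := fun r χ => by
    by_cases h : Lies φ.ker c (χ : X → ℂ)
    · obtain ⟨x, hx, e⟩ := List.mem_map.1 r.2
      rw [hin _ χ.2 h, ← e]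
      exact hint _ χ.2 h x (List.mem_append_left _ hx)
    · exact ⟨0, (hz χ r h).trans Int.cast_zero.symm⟩
  choose n hn' using hex
  have hn'' : ∀ (r : {r // r ∈ R}) (χ : IrrCharacter X), classInner (V r) (χ : X → ℂ) = n r χ := fun r χ => by
    rw [← classInner_conj_symm, hn', map_intCast]
  have hip : ∀ (r r' : {r // r ∈ R}) (z : ℤ), ip D r r' = D.N * z → ∑ χ, n r χ * n r' χ = z := fun r r' z h => by
    have h3 := classInner_eq_sum (hV r) (hV r')
    simp only [hn'', map_intCast] at h3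
    rw [S.inner_tw fun g hg => Int.cast_eq_zero.2 (of_decide_eq_true
      (allL_spec (n1 r r.2).1.1.1 _ (List.mem_range.2 (T.lt g))) (T.ord g ▸ hg))] at h3
    have h4 := (inner_of_ip hm c6 h).symm.trans h3
    exact_mod_cast h4.symm
  obtain ⟨σ, s1, s2, s3⟩ := exists_pos n (fun r => hip r r 1 (n1 r r.2).1.2) fun r r' h =>
    hip r r' 0 ((of_decide_eq_true (allL_spec (n1 r r.2).2 r' r'.2)).resolve_left fun e => h (Subtype.ext e))
  have s4 : ∀ r, OI X (σ r : X → ℂ) ∧ Lies φ.ker c (σ r : X → ℂ) := fun r => by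
    refine ⟨⟨(σ r).2, ?_⟩, by_contra fun h => ?_⟩
    · have h3 := congrFun (classFunction_eq_sum (hV r)) 1
      rw [Finset.sum_apply, Finset.sum_eq_single (σ r) (fun χ _ hχ => by rw [hn'', s3 r χ hχ]; simp)
        (fun h => absurd (Finset.mem_univ _) h), hn'', Pi.smul_apply, Blocks.Knorr.charDegree_eq (σ r).2, smul_eq_mul] at h3
      have h4 : V r 1 = (nth r 0 : ℂ) := (Su.tw_one c _).trans (by rw [h6])
      have h5 : nth r 0 = n r (σ r) * charDegree (σ r : X → ℂ) := by exact_mod_cast h4.symm.trans h3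
      have h7 : Odd (n r (σ r) * charDegree (σ r : X → ℂ)) := h5 ▸ Int.odd_iff.2 (n1 r r.2).1.1.2
      exact (Int.odd_coe_nat _).1 (Int.odd_mul.1 h7).2
    · have h3 := s2 r
      rw [Int.cast_eq_zero.1 ((hn' r (σ r)).symm.trans (hz _ r h))] at h3
      omega
  have hcard : Nat.card {r // r ∈ R} = l.length := by
    rw [← List.length_map (rowC rows (U.map Prod.fst)), ← List.toFinset_card_of_nodup n0, ← Nat.card_eq_finsetCard]
    exact Nat.card_congr (Equiv.subtypeEquivRight fun r => List.mem_toFinset.symm)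
  rw [← hcard]
  refine (Nat.card_eq_of_bijective (fun r => (⟨σ r, s4 r⟩ : {χ : X → ℂ // OI X χ ∧ Lies φ.ker c χ}))
    ⟨fun r r' e => s1 (Subtype.ext (Subtype.mk.inj e)), ?_⟩).symm
  rintro ⟨χ, ⟨hχ, hd⟩, hl⟩
  by_contra hno
  obtain ⟨z, h5⟩ := even_sum (T := T) (A := S.lf χ) Prod.fst (fun x => nth (rowC rows (U.map Prod.fst) x)) (l ++ l')
    (hint χ hχ hl) fun x hx => (List.mem_append.1 hx).symm.imp (h2 x) fun hx' => by
      rw [← hin χ hχ hl]
      exact (hn' ⟨_, List.mem_map_of_mem hx'⟩ ⟨χ, hχ⟩).trans (Int.cast_eq_zero.2 (s3 _ _ fun e =>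
        hno ⟨⟨_, List.mem_map_of_mem hx'⟩, Subtype.ext (congrArg Subtype.val e).symm⟩))
  have h7 := inn_single hm (A := S.lf χ)
    (f := fun s => ((l ++ l').map fun x => x.1 * nth (rowC rows (U.map Prod.fst) x) s).sum) (h6 ▸ T.lt 1) (a := S.lf χ 1)
    (fun g h => by rw [orderOf_eq_one_iff.1 ((T.ord g).trans ((c7 g).2.1.2 h))])
    fun g h => Or.inr ((c7 g).2.2.trans (if_neg h))
  have h8 := (c7 1).2.2
  have h9 : S.lf χ 1 = charDegree χ := by
    rw [← Blocks.Knorr.charDegree_eq hχ, S.eq_lf hl (hv χ hχ hl) 1, Su.tw_one]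
  rw [h6, if_pos rfl] at h8
  rw [h5, h8, c5, h9] at h7
  have h10 : (charDegree χ : ℂ) = 2 * z := mul_left_cancel₀ (hm.1 ▸ card_ne_zero_complex : (D.N : ℂ) ≠ 0) (by
    push_cast at h7
    linear_combination -h7)
  have h11 : (charDegree χ : ℤ) = 2 * z := by exact_mod_cast h10
  obtain ⟨m, hm⟩ := hd
  omega

end Cfsg.Agent.MK.S5.Cov
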