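import Cfsg.Agent.MK.S5.ON
import Cfsg.Agent.MK.S5.Cov
import Cfsg.Agent.MK.T.D
import Cfsg.Agent.CpQuot.ONThree

/-!
# MK, the small row of the triple cover of the O'Nan group (helper55)
-/

set_option autoImplicit false
set_option maxHeartbeats 400000
set_option maxRecDepth 100000

namespace Cfsg.Agent.MK.S5

open Subgroup Cfsg.Agent.MK.T Cfsg.Agent.MK.S

namespace ONRow

open Cfsg.Spor (ON)
open Cfsg.Agent.CpQuot Cfsg.Agent.CpQuot.ONThree Cfsg.Agent.UGT.C.BalON Cfsg.Agent.TAB.ON Cfsg.Agent.H622.Over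
open Cfsg.Agent.KFacts.ON.Cent (finite_ON hON)
open Cfsg.Agent.KFacts.MulSpor.ON (w w_append eqw)
open scoped commutatorElement

variable {X : Type} [Group X] [Finite X] (φ : X →* ON) (hφ : Function.Surjective φ) (hk : φ.ker = center X)
  (h3 : Nat.card (center X) = 3) (hp : commutator X = ⊤)

omit [Finite X] in
include hk in
theorem comm_lift {a b c : X} (h : φ a = φ b) (hb : b * c = c * b) : a * c = c * a := by
  have h1 : b⁻¹ * a ∈ center X := by rw [← hk, MonoidHom.mem_ker, map_mul, map_inv, h, inv_mul_cancel]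
  rw [← mul_inv_cancel_left b a, mul_assoc, ← mem_center_iff.1 h1 c, ← mul_assoc, hb, mul_assoc]

include hφ hk h3 hp in
/-- the lifts of `x₁`, `x₂` do not commute -/
theorem not_comm {a b : X} (ha : φ a = w x₁) (hb : φ b = w x₂) : a * b ≠ b * a := by
  intro hab
  have := finite_ON
  have := Fact.mk Nat.prime_three
  have hZ : φ.ker ≤ center X := hk.le
  have hZp : IsPGroup 3 φ.ker := IsPGroup.of_card (n := 1) (by rw [hk, h3, pow_one])
  obtain ⟨u, hu⟩ := hφ (w s)
  obtain ⟨v₁, h1⟩ := hφ (w t₁)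
  obtain ⟨v₂, h2⟩ := hφ (w t₂)
  obtain ⟨g, hg⟩ := hφ (w k)
  have c0 : ∀ {x y : X}, φ x * φ y = φ y * φ x → φ y ^ 2 = 1 → Commute x y := fun h h' =>
    commutatorElement_eq_one_iff_mul_comm.1 (Pairs.comm_eq_one hZ hZp h (by norm_num) h')
  have au : Commute a u := c0 (by rw [ha, hu, x1s hs]) (by rw [hu, s2 hs])
  have bu : Commute b u := c0 (by rw [hb, hu, x2s hs]) (by rw [hu, s2 hs])
  have a1 : Commute a (u * v₁) := au.mul_right (c0 (by rw [ha, h1, x1t1 hs]) (by rw [h1, t12 hs]))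
  have b1 : Commute b (u * v₁) := bu.mul_right (c0 (by rw [hb, h1, x2t1 hs]) (by rw [h1, t12 hs]))
  have a2 : Commute a (u * v₂) := au.mul_right (c0 (by rw [ha, h2, x1t2 hs]) (by rw [h2, t22 hs]))
  have b2 : Commute b (u * v₂) := bu.mul_right (c0 (by rw [hb, h2, x2t2 hs]) (by rw [h2, t22 hs]))
  have ab : Commute a b := hab
  have yy : Commute (u * v₁) (u * v₂) := by
    have e1 : φ (g * (u * v₁) * g⁻¹) = φ a := by rw [map_mul, map_mul, map_mul, map_inv, hg, hu, h1, k1 hs, ha]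
    have e2 : φ (g * (u * v₂) * g⁻¹) = φ (a * b) := by
      rw [map_mul, map_mul, map_mul, map_inv, hg, hu, h2, k2 hs, map_mul, ha, hb]
    have e3 := comm_lift φ hk e1 (comm_lift φ hk e2 ((Commute.refl a).mul_left ab.symm).eq).symm
    exact (MulAut.conj g).injective (by rw [map_mul _ (u * v₁), map_mul _ (u * v₂)]; exact e3)
  have h4 := Pairs.le_zpowers hp hφ hZ Nat.prime_three hZp (not_dvd_index hON) (s := {a, b, u * v₁, u * v₂}) (c := 1)
    (by rw [MonoidHom.map_closure]; simp [Set.image_insert_eq, ha, hb, hu, h1, h2, P]) (one_mem _) (by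
      have cm : ∀ {x y : X}, Commute x y → ⁅x, y⁆ ∈ zpowers (1 : X) := fun h => by
        rw [commutatorElement_eq_one_iff_mul_comm.2 h]
        exact one_mem _
      rintro x (rfl | rfl | rfl | rfl) y (rfl | rfl | rfl | rfl)
      exacts [cm (.refl _), cm ab, cm a1, cm a2, cm ab.symm, cm (.refl _), cm b1, cm b2, cm a1.symm, cm b1.symm,
        cm (.refl _), cm yy, cm a2.symm, cm b2.symm, cm yy.symm, cm (.refl _)])
  rw [zpowers_one_eq_bot, le_bot_iff, hk] at h4
  rw [h4, card_bot] at h3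
  omega

theorem sg_x₁ : sg hON (w x₁) = w x₁ ^ 1 := (sg_word hON x₁).trans (pow_one _).symm

theorem sg_x₂ : sg hON (w (x₁ ++ x₁ ++ x₂)) = w (x₁ ++ x₁ ++ x₂) ^ 2 := by
  rw [pow_two, ← w_append]
  exact (sg_word hON _).trans (eqw hs _ _ (by decide +kernel))

include hφ hk h3 hp in
/-- the automorphisms which centralise the centre are inner -/
theorem inn (α : MulAut X) (hα : ∀ z ∈ center X, α z = z) : ∃ x, α = MulAut.conj x := by
  obtain ⟨a, ha⟩ := hφ (w x₁)
  obtain ⟨b, hb⟩ := hφ (w x₂)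
  have h1 : φ (a * a * b) = w (x₁ ++ x₁ ++ x₂) := by rw [map_mul, map_mul, ha, hb, w_append, w_append]
  refine inn_of_inv φ hφ hk hp (UGT.C.BalONOut.out hON (sg hON) (sg_on hON)) (a := a) (b := a * a * b) (c := ⁅a, b⁆)
    (i := 1) (j := 2) (by rw [ha, sg_x₁]) (by rw [h1, sg_x₂]) ?_ ?_ (fun h => ?_) α hα
  · exact Pairs.comm_mem_center hk.le (by rw [ha, hb, x12 hs])
  · have h2 := mem_center_iff.1 (Pairs.comm_mem_center hk.le (x := a) (y := b) (by rw [ha, hb, x12 hs])) (a * a)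
    rw [← mul_assoc ⁅a, b⁆ (a * a * b), ← mul_assoc ⁅a, b⁆ (a * a), ← h2, commutatorElement_def]
    group
  · rw [one_mul, pow_two, mul_eq_left] at h
    exact not_comm φ hφ hk h3 hp ha hb (commutatorElement_eq_one_iff_mul_comm.1 h)

theorem cov_n : Cov.okN dON 3 ((covE.take 8).map (rowC (tabON.rel.map Prod.snd) (covU.map Prod.fst))) = true := by
  decide +kernel

include hφ hk h3 hp in
/-- eight characters of odd degree over a faithful central character -/
theorem card_over (c : φ.ker →* ℂˣ) (hc : Function.Injective c) :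
    Nat.card {χ : X → ℂ // OI X χ ∧ Lies φ.ker c χ} = 8 := by
  have := finite_ON
  obtain ⟨T, hm, -, hv, -⟩ := exists_tab
  refine Cov.card_of_check φ hφ hk.le (by rw [hk, h3]) hm (fun r hr => ?_) (ones T) (l := covE.take 8) (l' := covE.drop 8)
    (by rw [List.take_append_drop]; exact cov_ok) cov_n (by decide) c fun χ hχ hl x hx => ?_
  · obtain ⟨y, hy, rfl⟩ := List.mem_map.1 hr
    exact hv y hy
  · refine H535.RIM.ON.vanish hk.le (QuotientGroup.quotientKerEquivOfSurjective φ hφ) (by rw [hk, h3]) hp hc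
      (χ := ⟨χ, hχ⟩) hl ?_
    rwa [← (QuotientGroup.quotientKerEquivOfSurjective φ hφ).orderOf_eq]

end ONRow

/-- **the row of `3.O'N`** -/
theorem on3 : SmC Spor.ON := fun X _ _ φ hφ hk h3 hp _ => by
  have := KFacts.ON.Cent.finite_ON
  refine sm_of_kk φ hφ hk (by rw [h3]; decide) (ONRow.inn φ hφ hk h3 hp) (CycN.of_selfN ?_) ONRow.m0 fun l m hl hm => ?_
  · obtain ⟨Q, hQ⟩ := ONRow.exists_Q
    exact QTNorm.SelfN.of_one Q (by rw [hQ, ONRow.norm_eq])
  · let c : φ.ker →* ℂˣ := m.comp (inclusion hk.le)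
    have hc : Function.Injective c := (injective_iff_map_eq_one c).2 fun z hz =>
      Subtype.ext (hl z (hk.le z.2) ((hm ⟨z, hk.le z.2⟩).trans (congrArg Units.val hz)))
    rw [kk_top, ONRow.k0_ON, ← ONRow.card_over φ hφ hk h3 hp c hc]
    refine Nat.card_congr (Equiv.subtypeEquivRight fun χ => and_congr_right fun hχ => ⟨fun h => ?_, fun h z hz => ?_⟩)
    · obtain ⟨d, hd⟩ := H622.Over.exists_hom hk.le hχ.1
      have h1 : d = c := MonoidHom.ext fun z => Units.ext (mul_right_cancel₀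
        (Characters.Core.isIrr_apply_one_ne_zero hχ.1) (by
          have h2 := hd 1 z
          rw [one_mul, h z (hk.le z.2), hm ⟨z, hk.le z.2⟩] at h2
          rw [mul_comm, ← h2]
          rfl))
      exact h1 ▸ hd
    · have h1 := h 1 ⟨z, hk.ge hz⟩
      rw [one_mul] at h1
      rw [hm ⟨z, hz⟩, mul_comm]
      exact h1

end Cfsg.Agent.MK.S5
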