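import Cfsg.Agent.MK.S5.Gen
import Cfsg.Agent.MK.S8.Large
import Cfsg.Agent.KFacts.Th.Main
import Cfsg.Agent.H799.SymSyl
import Cfsg.Agent.TAB.Th.Main

/-!
# MK, the small row of the Thompson group (helper55)
-/

set_option autoImplicit false
set_option maxHeartbeats 400000
set_option maxRecDepth 100000

namespace Cfsg.Agent.MK.S5

open Subgroup Cfsg.Agent.MK.T Cfsg.Agent.MK.S Cfsg.Agent.MK.S8

namespace ThRow

open Cfsg.Agent.Th.Word Cfsg.Agent.Th.PermTab Cfsg.Agent.Th.NineAct Cfsg.Agent.Th.CStruct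
  Cfsg.Agent.KFacts.Th.Mask Cfsg.Agent.KFacts.Th.Struct Cfsg.Agent.KFacts.AutLarge

variable {G : Type} [Group G] {γ : ℕ → G} (h : Ctx γ)

include h in
theorem mask_word : ∀ {w : List ℕ}, (∀ x ∈ w, x ∈ [4,5,6,7,8,9]) → ∀ {y : G} {m : ℕ}, HM (γ 1) (cc γ) y m →
    HM (γ 1) (cc γ) ((ev γ w)⁻¹ * y * ev γ w) (tr pm w m)
  | [], _, y, m, hm => by simpa using hm
  | x :: w, hw, y, m, hm => by
    have h1 := mask_word (w := w) (fun a ha => hw a (List.mem_cons_of_mem _ ha))
      (h.mask_letter (hw x List.mem_cons_self) hm)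
    rw [ev_cons, tr_cons, mul_inv_rev]
    simpa only [mul_assoc] using h1

/-- three words which act regularly on eight of the nine points -/
def ws : List (List ℕ) := [[5], [6, 5, 7], [7, 5, 6]]

theorem ws_mem : ∀ w ∈ ws, ∀ x ∈ w, x ∈ [4,5,6,7,8,9] := by decide

theorem ws_rel : ∀ v ∈ ws, ∀ w ∈ ws, ∀ p < 9, tr act9 (v ++ v) p = p ∧ tr act9 (v ++ w ++ (v ++ w)) p = p := by
  decide +kernel

theorem ws_fix : ∀ m < 512, par m = false → (∀ w ∈ ws, tr pm w m = m) → m = 0 ∨ m = 510 := by decide +kernel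

include h in
theorem uq {S : Subgroup G} (hS : ∀ w ∈ ws, ev γ w ∈ S) : Uq (Q0 γ) S (γ 1) := by
  have key : ∀ x ∈ Q0 γ, Fx S (γ 1) x → (x = 1 ∨ x = γ 1) ∨ HM (γ 1) (cc γ) x 510 := by
    intro x hx hf
    obtain ⟨m, hm⟩ := exists_mask h.data hx
    have h1 : ∀ w ∈ ws, tr pm w m = m := by
      intro w hw
      have h2 := mask_word h (ws_mem w hw) hm
      have h3 := hf _ (inv_mem (hS w hw))
      rw [inv_inv] at h3
      rcases h3 with h3 | h3
      · rw [h3] at h2
        exact unique h.data h2 hm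
      · rw [h3] at h2
        have h4 := mul h.data hx hm (mask_a h.data)
        rw [Nat.xor_zero] at h4
        exact unique h.data h2 h4
    rcases ws_fix m hm.1 (par_eq h.data hx hm) h1 with rfl | rfl
    · exact Or.inl (eq_of_zero h.data h.cardQ hx hm)
    · exact Or.inr hm
  intro x hx y hy h1 h2
  rcases key x hx h1 with h3 | h3
  · exact Or.inl h3
  rcases key y hy h2 with h4 | h4
  · exact Or.inr (Or.inl h4)
  exact Or.inr (Or.inr (eq_of_mask h.data h.cardQ hy hx h4 h3))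

include h in
theorem exists_sylow [Finite G] : ∃ P : Sylow 2 G, (P : Subgroup G) ≤ sub γ isC ∧ ∀ w ∈ ws, ev γ w ∈ (P : Subgroup G) := by
  have := two_prime
  obtain ⟨f, -, hker, hw⟩ := h.exists_epi
  have hC : ∀ w ∈ ws, ∀ x ∈ w, isC x = true := fun w h1 x hx => isC_of_mem (ws_mem w h1 x hx)
  have h1 : IsPGroup 2 f.ker := by
    rw [hker]
    exact IsPGroup.of_card (n := 9)
      (by rw [Nat.card_congr (subgroupOfEquivOfLe h.Q_le).toEquiv, h.cardQ]; norm_num)
  have hsq : ∀ w ∈ ws, ev (rho isTab9) w * ev (rho isTab9) w = 1 := fun w h2 => by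
    rw [← ev_append]
    exact ev_rho_eq_one isTab9 (fun x hx => (List.mem_append.1 hx).elim (hC w h2 x) (hC w h2 x))
      fun p hp => (ws_rel w h2 w h2 p hp).1
  have h2 : IsPGroup 2 (closure (ev (rho isTab9) '' {w | w ∈ ws})) := by
    refine isPGroup_closure ?_ ?_
    · rintro _ ⟨w, h2, rfl⟩
      exact hsq w h2
    · rintro _ ⟨v, h2, rfl⟩ _ ⟨w, h3, rfl⟩
      have h4 : ∀ x ∈ v ++ w, isC x = true := fun x hx => (List.mem_append.1 hx).elim (hC v h2 x) (hC w h3 x)
      have h5 := ev_rho_eq_one isTab9 (w := v ++ w ++ (v ++ w))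
        (fun x hx => (List.mem_append.1 hx).elim (h4 x) (h4 x)) fun p hp => (ws_rel v h2 w h3 p hp).2
      rw [ev_append, ev_append] at h5
      rw [eq_inv_of_mul_eq_one_left h5, mul_inv_rev, inv_eq_of_mul_eq_one_left (hsq v h2),
        inv_eq_of_mul_eq_one_left (hsq w h3)]
  have h3 : IsPGroup 2 ((alternatingGroup (Fin 9)).subtype.comp f).ker := by
    rw [← MonoidHom.comap_ker, ker_subtype, MonoidHom.comap_bot]
    exact h1
  obtain ⟨P, hP1, hP2⟩ := exists_sylow_between (C := sub γ isC) (by rw [h.index_eq]; decide)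
    (h2.comap_of_ker_isPGroup _ h3)
  refine ⟨P, hP1, fun w h4 => hP2 ⟨ev γ w, ev_mem_sub (hC w h4)⟩ ?_⟩
  rw [mem_comap, MonoidHom.comp_apply, subtype_apply, hw w (hC w h4)]
  exact subset_closure ⟨w, h4, rfl⟩

include h in
theorem k0_norm [Finite G] : ∃ P : Sylow 2 G, k0 (normalizer ((P : Subgroup G) : Set G)) = 16 := by
  have := two_prime
  obtain ⟨P, hP1, hP2⟩ := exists_sylow h
  obtain ⟨π, D⟩ := KFacts.Th.Main.exists_data h
  have hP : (P : Subgroup G) ≤ centralizer ({γ 1} : Set G) := by rw [h.cent]; exact hP1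
  have hE : Q0 γ ≤ (P : Subgroup G) := by
    have hn : ((Q0 γ).subgroupOf (centralizer ({γ 1} : Set G))).Normal := by
      have e : (Q0 γ).subgroupOf (centralizer ({γ 1} : Set G)) = π.ker := by
        ext x
        rw [MonoidHom.mem_ker, D.ker, mem_subgroupOf]
      rw [e]
      infer_instance
    have hQ : Q0 γ ≤ centralizer ({γ 1} : Set G) := by rw [h.cent]; exact h.Q_le
    have h2 : IsPGroup 2 ((Q0 γ).subgroupOf (centralizer ({γ 1} : Set G))) := IsPGroup.of_card (n := 9)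
      (by rw [Nat.card_congr (subgroupOfEquivOfLe hQ).toEquiv, h.cardQ]; norm_num)
    have h3 := (P.subtype hP).isPGroup'.to_sup_of_normal_right h2
    have h4 := le_sup_right.trans ((P.subtype hP).is_maximal' h3 le_sup_left).le
    exact fun x hx => h4 (x := ⟨x, hQ hx⟩) hx
  have h1 := cnt_large D.large D.ex hE hP P.2 (uq h hP2) π D.surj D.ker
  have h2 := k0_norm_self (fun T => (H799.SymSyl.normalizer_alt (by simp) T).le)
    ((P.subtype hP).mapSurjective D.surj)
  rw [a2_alt9] at h2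
  exact ⟨P, h1.trans (congrArg (2 * ·) h2)⟩

end ThRow

/-- **the row of `Th`** -/
theorem th : SmS Spor.Th := fun _ => by
  have := KFacts.Th.Main.finite
  have hs : IsSimpleGroup Spor.Th := Th.Main1700.isTh.1
  obtain ⟨P, hP⟩ := ThRow.k0_norm KFacts.Th.Main.ctx
  refine sm_of_one ?_ (index_one KFacts.Th.Main.inner) (M0.of_one P ?_)
  · obtain ⟨π, D⟩ := KFacts.Th.Main.exists_data KFacts.Th.Main.ctx
    obtain ⟨a, b, hab⟩ := D.nab
    obtain ⟨a, rfl⟩ := D.surj a
    obtain ⟨b, rfl⟩ := D.surj b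
    refine center_eq_bot ⟨a, b, fun e => hab ?_⟩
    rw [← map_mul, ← map_mul]
    exact congrArg π (Subtype.ext e)
  · rw [hP, k0_of_degList TAB.Th.deg]
    decide

end Cfsg.Agent.MK.S5
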