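import Cfsg.Agent.MK.S5.Mov
import Cfsg.Agent.MK.T.B
import Cfsg.Agent.TAB.J2.Main
import Cfsg.Agent.S2066

/-!
# MK, the characters of odd degree of the Hall–Janko group (helper55)

Eight characters have odd degree; the outer automorphisms move ten classes, so they move the ten characters which are
not determined by their degree.
-/

set_option autoImplicit false
set_option maxHeartbeats 400000

namespace Cfsg.Agent.MK.S5.J2Row

open Subgroup Cfsg.Agent.MK.T Cfsg.Agent.TAB.Use Cfsg.Agent.TAB.J2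
open Cfsg.Agent.SporadicA.J2Hundred (G pT pT_mem)
open Cfsg.Agent.H89.S8.J2 (T)
open Cfsg.Agent.H269.CubeJ2 (cj)

theorem f0_G : f0 (cj pT pT_mem) = 4 := by
  obtain ⟨χ, hE⟩ := fin.2.2.2
  have h1 : ∀ j < degL.length, j ∉ [11, 12, 13, 14, 15, 16, 17, 18, 19, 20] →
      ∀ i < degL.length, degL.getD i 0 = degL.getD j 0 → i = j := by decide
  have h2 : ∀ j < degL.length, j ∉ [11, 12, 13, 14, 15, 16, 17, 18, 19, 20] → ∀ x, χ j (cj pT pT_mem x) = χ j x :=
    fun j hj h => enum_fix hE _ hj (h1 j hj h)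
  have h3 : ∀ {i j : Fin 21}, (i, j) ∈ [((3 : Fin 21), (7 : Fin 21)), (8, 12), (13, 16), (15, 17), (19, 20)] → i ≠ j →
      ¬ IsConj (cj pT pT_mem (T.x i)) (T.x i) ∧ ¬ IsConj (cj pT pT_mem (T.x j)) (T.x j) :=
    fun h hn => not_conj_of_pair (out h) fun e => hn (T.inj _ _ e)
  have h4 := fun i => moved_of_count hE (cj pT pT_mem) _ h2
    (L := ([3, 7, 8, 12, 13, 16, 15, 17, 19, 20] : List (Fin 21)).map T.x) (i := i)
    (List.pairwise_map.2 ((by decide : ([3, 7, 8, 12, 13, 16, 15, 17, 19, 20] : List (Fin 21)).Nodup).imp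
      fun h e => h (T.inj _ _ e)))
    (List.forall_mem_map.2 fun i hi => by
      have h5 : ∀ i ∈ ([3, 7, 8, 12, 13, 16, 15, 17, 19, 20] : List (Fin 21)), ∃ j : Fin 21, i ≠ j ∧
          ((i, j) ∈ [((3 : Fin 21), (7 : Fin 21)), (8, 12), (13, 16), (15, 17), (19, 20)] ∨
          (j, i) ∈ [((3 : Fin 21), (7 : Fin 21)), (8, 12), (13, 16), (15, 17), (19, 20)]) := by decide
      obtain ⟨j, h6, h7 | h7⟩ := h5 i hi
      exacts [(h3 h7 h6).1, (h3 h7 h6.symm).2]) le_rfl
  rw [f0_enum hE (q := fun j => decide (j ∉ [11, 12, 13, 14, 15, 16, 17, 18, 19, 20])) fun j hj _ =>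
    ⟨fun h => decide_eq_true fun e => h4 j e h, fun h => h2 j hj (of_decide_eq_true h)⟩]
  decide

theorem k0_J2 : k0 Spor.J2 = 8 := by
  rw [k0_of_degList deg]
  decide

theorem index_two : (MulAut.conj : Spor.J2 →* MulAut Spor.J2).range.index = 2 := S2066.result

/-- the outer automorphisms fix four characters of odd degree -/
theorem f0_out {α : MulAut Spor.J2} (hα : α ∉ (MulAut.conj : Spor.J2 →* MulAut Spor.J2).range) : f0 α = 4 := by
  obtain ⟨e⟩ := H379.J2Spec.iso
  let β : MulAut Spor.J2 := (e.trans (cj pT pT_mem)).trans e.symm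
  have h1 : f0 β = 4 := (f0_congr e fun x => e.apply_symm_apply _).trans f0_G
  have h2 : β ∉ (MulAut.conj : Spor.J2 →* MulAut Spor.J2).range := by
    rintro ⟨g, hg⟩
    rw [← hg, f0_conj, k0_J2] at h1
    omega
  obtain ⟨g, hg⟩ := (mul_mem_iff_of_index_two index_two (a := α) (b := β⁻¹)).2
    (iff_of_false hα fun h => h2 (inv_mem_iff.1 h))
  rw [← inv_mul_cancel_right α β, ← hg, f0_conj_mul, h1]

end Cfsg.Agent.MK.S5.J2Row
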