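import Cfsg.Agent.MK.T.B
import Cfsg.Agent.KZ.Spor.J3
import Cfsg.Agent.H306.K547.J3Inv

/-!
# MK, the characters of odd degree of the third Janko group (helper55)

Eight characters have odd degree; the outer automorphisms move those of degrees `85` and `323`.
-/

set_option autoImplicit false
set_option maxHeartbeats 400000

namespace Cfsg.Agent.MK.S5.J3Row

open Cfsg Cfsg.Spor Subgroup Cfsg.Agent.MK.T Cfsg.Agent.TAB.Use Cfsg.Agent.Characters
open Cfsg.Agent.H306.SD.J (degs finite_of index_inn)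

variable {K : Type} [Group K]

theorem k0_J3 (h : IsoJ3 K) : k0 K = 8 := by
  rw [k0_of_degList (TAB.J3.deg h)]
  decide

theorem index_two (h : IsoJ3 K) : (MulAut.conj : K →* MulAut K).range.index = 2 := index_inn h

/-- the outer automorphisms fix four characters of odd degree -/
theorem f0_out (h : IsoJ3 K) {α : MulAut K} (hα : α ∉ (MulAut.conj : K →* MulAut K).range) : f0 α = 4 := by
  have := finite_of h
  obtain ⟨χ, hE⟩ := TAB.J3.deg h
  have h1 : ∀ j < degs.length, (∀ x, χ j (α x) = χ j x) → ∀ (β : MulAut K) (x : K), χ j (β x) = χ j x := by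
    intro j hj h1 β x
    have h2 := Core.isIrr_isClassFunction (hE.irr j hj)
    by_cases h3 : β ∈ (MulAut.conj : K →* MulAut K).range
    · obtain ⟨g, rfl⟩ := h3
      exact h2 x g
    · obtain ⟨g, hg⟩ := (mul_mem_iff_of_index_two (index_inn h) (a := β) (b := α⁻¹)).2
        (iff_of_false h3 fun e => hα (inv_mem_iff.1 e))
      rw [← inv_mul_cancel_right β α, ← hg, MulAut.mul_apply, MulAut.conj_apply, h2, h1]
  have h2 : ∀ {i j : ℕ} (hi : i < degs.length) (_ : j < degs.length), i ≠ j → degs.getD i 0 = 1215 → degs.getD j 0 = 1215 →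
      (∀ k < degs.length, degs.getD k 0 = 1215 → k = i ∨ k = j) → ∀ x, χ i (α x) = χ i x := by
    intro i j hi hj hij h2 h3 h4
    refine congrFun (congrArg Subtype.val (H306.K547.JThree.inv_1215 h (α := ⟨χ i, hE.irr i hi⟩) (β := ⟨χ j, hE.irr j hj⟩)
      (fun e => hij (hE.inj i hi j hj (congrArg Subtype.val e))) (h2 ▸ hE.deg i hi) (h3 ▸ hE.deg j hj) (fun θ hθ => ?_) α))
    obtain ⟨k, hk, h5⟩ := hE.all θ θ.2
    have h6 := hE.deg k hk
    rw [← h5, hθ] at h6
    rcases h4 k hk (Nat.cast_injective h6).symm with rfl | rfl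
    exacts [Or.inl (Subtype.ext h5), Or.inr (Subtype.ext h5)]
  rw [f0_enum hE (q := fun j => j == 0 || j == 10 || j == 11 || j == 12) fun j hj ho => ?_]
  · decide
  have h3 : ∀ j < degs.length, degs.getD j 0 % 2 = 1 → (j = 0 ∨ j = 12) ∨ j = 10 ∨ j = 11 ∨ (j = 1 ∨ j = 2) ∨
      (j = 3 ∨ j = 4) := by decide
  rcases h3 j hj (Nat.odd_iff.1 ho) with (rfl | rfl) | rfl | rfl | h4 | h4
  · exact iff_of_true (enum_fix hE _ hj (by decide)) rfl
  · exact iff_of_true (enum_fix hE _ hj (by decide)) rfl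
  · exact iff_of_true (h2 (j := 11) hj (by decide) (by decide) rfl rfl (by decide)) rfl
  · exact iff_of_true (h2 (j := 10) hj (by decide) (by decide) rfl rfl (by decide)) rfl
  · refine iff_of_false (fun e => H469.S8.not_inv h ⟨_, hE.irr j hj⟩ (Or.inl ?_) (h1 j hj e))
      (by rcases h4 with rfl | rfl <;> decide)
    rw [M23Order.Base.dg, hE.charDegree_eq hj]
    rcases h4 with rfl | rfl <;> decide
  · exact iff_of_false (fun e => KZ.Spor.not_inv_J3 h hE (by rcases h4 with rfl | rfl <;> decide) (h1 j hj e))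
      (by rcases h4 with rfl | rfl <;> decide)

end Cfsg.Agent.MK.S5.J3Row
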