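import Cfsg.Agent.MK.T.A
import Cfsg.Agent.TAB.Sm1.Tool
import Cfsg.Agent.S0173

/-!
# MK, small rows: moved characters from moved classes (helper55)
-/

set_option autoImplicit false
set_option maxHeartbeats 400000

namespace Cfsg.Agent.MK.S5

open Cfsg Cfsg.Agent.TAB.Use Cfsg.Agent.TAB.Sm1 Cfsg.Agent.Characters

variable {G : Type} [Group G] [Finite G] {n : ℕ} {d : ℕ → ℕ} {χ : ℕ → G → ℂ}

/-- the number of moved classes is at most the number of moved characters -/
theorem moved_le_moved (hE : Enum G n d χ) (α : MulAut G) (M : List ℕ) (hM : ∀ j < n, j ∉ M → ∀ x, χ j (α x) = χ j x)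
    {L : List G} (h1 : L.Pairwise fun a b => ¬ IsConj a b) (h2 : ∀ a ∈ L, ¬ IsConj (α a) a) : L.length ≤ M.length := by
  classical
  have := Core.finite_irr (G := G)
  have := Fintype.ofFinite (IrrCharacter G)
  have := Fintype.ofFinite (ConjClasses G)
  have h3 := S0173.result (G := G) α
  have h4 := Core.card_irr (G := G)
  have h5 : (L.map ConjClasses.mk).Nodup :=
    List.pairwise_map.2 (h1.imp fun h2 h3 => h2 (ConjClasses.mk_eq_mk_iff_isConj.1 h3))
  have h6 : L.length ≤ Fintype.card {C : ConjClasses G // ¬ ConjClasses.map α.toMonoidHom C = C} := by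
    rw [Fintype.card_subtype, ← List.length_map ConjClasses.mk, ← List.toFinset_card_of_nodup h5]
    refine Finset.card_le_card fun C hC => Finset.mem_filter.2 ⟨Finset.mem_univ _, ?_⟩
    obtain ⟨a, ha, rfl⟩ := List.mem_map.1 (List.mem_toFinset.1 hC)
    exact fun h => h2 a ha (ConjClasses.mk_eq_mk_iff_isConj.1 h)
  refine h6.trans ?_
  simp only [Nat.card_eq_fintype_card] at h3 h4
  rw [Fintype.card_subtype_compl, h3, ← h4, ← Fintype.card_subtype_compl, Fintype.card_subtype]
  refine le_trans ?_ (List.toFinset_card_le M)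
  refine Finset.card_le_card_of_injOn (fun ψ => ((enumEquiv hE).symm ψ : ℕ)) (fun ψ hψ => ?_) fun a _ b _ hab =>
    (enumEquiv hE).symm.injective (Fin.ext hab)
  obtain ⟨j, rfl⟩ := (enumEquiv hE).surjective ψ
  simp only [Finset.coe_filter, Finset.mem_univ, true_and, Set.mem_ofPred_eq] at hψ
  simp only [Equiv.symm_apply_apply, List.coe_toFinset, Set.mem_ofPred_eq]
  by_contra h7
  exact hψ (funext (hM j j.2 h7))

/-- if there are as many moved classes as candidates, all candidates are moved -/
theorem moved_of_count (hE : Enum G n d χ) (α : MulAut G) (M : List ℕ) (hM : ∀ j < n, j ∉ M → ∀ x, χ j (α x) = χ j x)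
    {L : List G} (h1 : L.Pairwise fun a b => ¬ IsConj a b) (h2 : ∀ a ∈ L, ¬ IsConj (α a) a) (hl : M.length ≤ L.length)
    {i : ℕ} (hi : i ∈ M) : ¬ ∀ x, χ i (α x) = χ i x := fun h => by
  have h3 := moved_le_moved hE α (M.filter (· != i)) (fun j hj h3 => by
    by_cases h4 : j = i
    · rwa [h4]
    · exact hM j hj fun h5 => h3 (List.mem_filter.2 ⟨h5, bne_iff_ne.2 h4⟩)) h1 h2
  have h4 : (M.filter (· != i)).length < M.length := List.length_filter_lt_length_iff_exists.2 ⟨i, hi, by simp⟩
  omega

omit [Finite G] in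
/-- two classes which are not fixed -/
theorem not_conj_of_pair {α : MulAut G} {a b : G} (h : IsConj (α a) b) (hn : ¬ IsConj a b) :
    ¬ IsConj (α a) a ∧ ¬ IsConj (α b) b :=
  ⟨fun e => hn (e.symm.trans h), fun e => hn (by simpa using α.symm.toMonoidHom.map_isConj (h.trans e.symm))⟩

end Cfsg.Agent.MK.S5
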