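import Cfsg.Agent.MK.S5.Gen
import Cfsg.Agent.MK.T.C
import Cfsg.Agent.TAB.ON.Main
import Cfsg.Agent.S2078

/-!
# MK, the small row of the O'Nan group (helper55)

The Sylow `2`-subgroup has eight linear characters, four of them are fixed by the outer automorphism, which exchanges the
two classes of elements of order `8`.
-/

set_option autoImplicit false
set_option maxHeartbeats 400000
set_option maxRecDepth 100000

namespace Cfsg.Agent.MK.S5

open Subgroup Cfsg.Agent.MK.T Cfsg.Agent.MK.S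

namespace ONRow

open Cfsg.Spor (ON)
open Cfsg.Agent.MK.S.Pc Cfsg.Agent.UGT.C Cfsg.Agent.UGT.C.BalONTab Cfsg.Agent.UGT.C.BalONInv Cfsg.Agent.UGT.C.BalON
open Cfsg.Agent.TAB.Eng Cfsg.Agent.TAB.Use Cfsg.Agent.TAB.ON
open Cfsg.Agent.KFacts.ON.Cent (finite_ON hON)
open Cfsg.Agent.Schreier.ONRel (s)

theorem hs : IsSimpleGroup ON := hON.1

theorem lt9 (i : ℕ) : 2 ^ (8 - i) < 512 :=
  lt_of_le_of_lt (Nat.pow_le_pow_right (by norm_num) (Nat.sub_le 8 i)) (by norm_num)

/-- the polycyclic generators from the top -/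
noncomputable def y (i : ℕ) : ON := E (2 ^ (8 - i))

/-- the code of a word -/
noncomputable def cd (w : List ℕ) : ℕ := w.foldr (fun a x => BalONTab.mu (2 ^ (8 - a)) x) 0

theorem ev_cd : ∀ w, ev y w = E (cd w)
  | [] => E_zero.symm
  | a :: w => by rw [ev_cons, ev_cd w, y, E_mul hs (lt9 a)]; rfl

noncomputable def eqv (v w : List ℕ) : Bool := Nat.beq (cd v) (cd w)

theorem eqv_ok (v w : List ℕ) (h : eqv v w = true) : ev y v = ev y w := by
  rw [ev_cd, ev_cd, Nat.eq_of_beq_eq_true h]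

def cON : Pc.Cert where
  gw := [[0], [1], [2], [3], [4], [5], [6], [7], [8]]
  sq := [[], [], [], [7, 8], [6], [], [8], [], []]
  cm := [[[], [4, 5], [], [5, 6, 7, 8], [6, 8], [8], [8], [8], []], [[], [], [3, 7, 8], [7, 8], [6, 7], [7], [8], [], []],
    [[], [], [], [7, 8], [5, 6, 8], [8], [], [], []], [[], [], [], [], [7, 8], [], [], [], []],
    [[], [], [], [], [], [8], [], [], []], [[], [], [], [], [], [], [], [], []], [[], [], [], [], [], [], [], [], []],
    [[], [], [], [], [], [], [], [], []], [[], [], [], [], [], [], [], [], []]]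
  dv := [([], [], []), ([], [], []), ([], [], []), ([2], [1], []), ([1], [0], [5, 6]), ([4], [2], [6]), ([4], [1], [7, 8]),
    ([5], [1], []), ([7], [0], [])]

theorem chk : ∀ i < 9, chk1 eqv 9 3 cON i = true := by decide +kernel

theorem pc : PC (cON.el y) 9 3 := pc_of_chk eqv_ok (by norm_num) chk

theorem el_eq {i : ℕ} (hi : i < 9) : cON.el y i = s (8 - i) := by
  have h : cON.gw.getD i [] = [i] := by
    revert i
    decide
  rw [Pc.Cert.el, h, ev_cons, ev_nil, mul_one, y, E_pow _ (by omega)]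

theorem V_eq {k : ℕ} (hk : k ≤ 9) : V (cON.el y) 9 k = HN.PC.Pc s (9 - k) := by
  refine le_antisymm (V_le fun i h1 h2 => ?_) ((closure_le _).2 ?_)
  · rw [el_eq h2]
    exact HN.PC.mem_Pc (by omega)
  · rintro _ ⟨i, hi, rfl⟩
    have h1 : i < 9 - k := hi
    have h2 := mem_V (g := cON.el y) (n := 9) (k := k) (i := 8 - i) (by omega) (by omega)
    rwa [el_eq (by omega), show 8 - (8 - i) = i by omega] at h2

theorem V_zero : V (cON.el y) 9 0 = T := V_eq (Nat.zero_le 9)

theorem card_T : Nat.card T = 2 ^ 9 := Schreier.ONTr.card_T hs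

theorem card_Pc {k : ℕ} (hk : k ≤ 9) : Nat.card (HN.PC.Pc s k) = 2 ^ k := by
  have := finite_ON
  have h1 := pc.card_eq (by rw [V_zero, card_T]) (k := 9 - k) (by omega)
  rwa [V_eq (by omega), show 9 - (9 - k) = k by omega] at h1

theorem comm_T : ⁅T, T⁆ = HN.PC.Pc s 6 := by
  have := finite_ON
  have h1 := pc.comm_eq
  rwa [V_zero, V_eq (by norm_num)] at h1

theorem E_mem_Pc {x k : ℕ} (hk : k ≤ 9) (hx : x < 2 ^ k) : E x ∈ HN.PC.Pc s k := by
  rw [E, UGT.C.PcTab.ev_le s hx 9 hk]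
  exact UGT.C.PcTab.ev_mem s x k

theorem index_Pc {k : ℕ} (hk : k ≤ 9) : ((HN.PC.Pc s k).subgroupOf T).index = 2 ^ (9 - k) := by
  have h1 := card_mul_index ((HN.PC.Pc s k).subgroupOf T)
  rw [Nat.card_congr (subgroupOfEquivOfLe (show HN.PC.Pc s k ≤ T from HN.PC.Pc_mono hk)).toEquiv, card_Pc hk, card_T,
    show 2 ^ 9 = 2 ^ k * 2 ^ (9 - k) by rw [← pow_add, Nat.add_sub_cancel' hk]] at h1
  exact Nat.eq_of_mul_eq_mul_left (Nat.two_pow_pos k) h1

theorem ab_T : ab T = 8 := by rw [ab, commutator_eq_subgroupOf, comm_T, index_Pc (by norm_num)]; rfl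

theorem two_T : IsPGroup 2 T := IsPGroup.of_card card_T

/-- the Sylow `2`-subgroup -/
theorem exists_Q : ∃ Q : Sylow 2 ON, (Q : Subgroup ON) = T := by
  have := two_prime
  have := finite_ON
  exact ⟨Sylow.ofCard T (by rw [card_T, hON.2, show 460815505920 = 2 ^ 9 * 900030285 by norm_num, fact_two (by decide)]),
    rfl⟩

theorem norm_eq : normalizer (T : Set ON) = T :=
  le_antisymm (fun _ hu => norm_T hON fun t ht => (mem_normalizer_iff.1 hu t).1 ht) le_normalizer

theorem stab (x : ON) : bt hON x ∈ T ↔ x ∈ T := by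
  have := finite_ON
  exact stab_of_le (fun _ h => bt_mem hON h) x

theorem codes : BalONTab.mu 7 128 = 135 ∧ BalONTab.mu 112 256 = 368 ∧ BalONTab.mu 48 64 = 112 ∧ be 128 = 135 ∧ be 256 = 368 ∧ be 16 = 57 ∧
    BalONTab.mu 192 57 = BalONTab.mu 48 192 ∧ ∀ i < 7, BG i < 128 := by decide +kernel

/-- four linear characters are fixed -/
theorem fN_T : fN T (bt hON) = 4 := by
  have := finite_ON
  have h6 : ∀ (μ : T →* ℂˣ) (x : T), (x : ON) ∈ HN.PC.Pc s 6 → μ x = 1 := fun μ x hx =>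
    Abelianization.commutator_subset_ker μ (by rw [commutator_eq_subgroupOf, comm_T]; exact hx)
  let e : ℕ → T := fun x => ⟨E x, E_mem x⟩
  have hm : ∀ {a b c : ℕ}, a < 512 → BalONTab.mu a b = c → e a * e b = e c := fun ha h => Subtype.ext (by rw [← h]; exact E_mul hs ha _)
  have hb : ∀ a, res T (bt hON) stab (e a) = e (be a) := fun a => Subtype.ext (bt_E hON a)
  obtain ⟨c1, c2, c3, c4, c5, -, -, c8⟩ := codes
  rw [fN_eq_f0 (res_coe T (bt hON) stab), f0_two two_T]
  have h1 := card_hom_ker ((HN.PC.Pc s 7).subgroupOf T)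
    (by rw [commutator_eq_subgroupOf, comm_T]; exact comap_mono (HN.PC.Pc_mono (by norm_num)))
  rw [index_Pc (by norm_num)] at h1
  refine Eq.trans (Nat.card_congr (Equiv.subtypeEquivRight fun μ => ⟨fun h => ?_, fun h => ?_⟩)) h1
  · have h2 := h (e 256)
    rw [hb, c5, ← hm (by norm_num) c2, ← hm (by norm_num) c3, map_mul, map_mul,
      h6 μ (e 48) (E_mem_Pc (by norm_num) (by norm_num)), one_mul, mul_eq_right] at h2
    have h3 : HN.PC.Pc s 7 ≤ μ.ker.map T.subtype := by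
      refine (closure_le _).2 ?_
      rintro _ ⟨i, hi, rfl⟩
      have h4 : i < 7 := hi
      refine ⟨e (2 ^ i), ?_, E_pow i (by omega)⟩
      rcases Nat.lt_succ_iff_lt_or_eq.1 h4 with h5 | rfl
      · exact h6 μ _ (E_mem_Pc (by norm_num) (Nat.pow_lt_pow_right (by norm_num) h5))
      · exact h2
    intro w hw
    obtain ⟨u, hu, huw⟩ := h3 hw
    rw [← show u = w from Subtype.ext huw]
    exact hu
  · have h7 : ∀ a < 128, μ (e a) = 1 := fun a ha => h _ (E_mem_Pc (by norm_num) ha)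
    have h3 : T ≤ (MonoidHom.eqLocus (μ.comp (res T (bt hON) stab).toMonoidHom) μ).map T.subtype := by
      refine (closure_le _).2 ?_
      rintro _ ⟨i, hi, rfl⟩
      have h4 : i < 9 := hi
      refine ⟨e (2 ^ i), ?_, E_pow i h4⟩
      show μ (res T (bt hON) stab (e (2 ^ i))) = μ (e (2 ^ i))
      by_cases h5 : i < 7
      · have h8 : res T (bt hON) stab (e (2 ^ i)) = e (BG i) :=
          Subtype.ext ((congrArg (bt hON) (E_pow i h4)).trans (bt_s hON h4))
        rw [h8, h7 _ (c8 i h5), h7 _ (Nat.pow_lt_pow_right (by norm_num) h5 : 2 ^ i < 2 ^ 7)]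
      · obtain rfl | rfl : i = 7 ∨ i = 8 := by omega
        · show μ (res T (bt hON) stab (e 128)) = μ (e 128)
          rw [hb, c4, ← hm (by norm_num) c1, map_mul, h7 7 (by norm_num), one_mul]
        · show μ (res T (bt hON) stab (e 256)) = μ (e 256)
          rw [hb, c5, ← hm (by norm_num) c2, map_mul, h7 112 (by norm_num), one_mul]
    intro x
    obtain ⟨u, hu, hux⟩ := h3 x.2
    rw [← show u = x from Subtype.ext hux]
    exact hu

/-! ### the global count -/

theorem ord16 : orderOf (E 16) = 8 := by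
  have := finite_ON
  obtain ⟨c, hc⟩ := isConj_iff.1 conj29
  have h1 := ord_pow (order_16 four384) 2
  rw [sq384] at h1
  rw [← hc, ← MulAut.conj_apply, MulEquiv.orderOf_eq, h1]
  decide

theorem fx_ne : fx (E 16) = 0 ∧ fx (bt hON (E 16)) = 4 := by
  obtain ⟨-, -, -, -, -, c6, c7, -⟩ := codes
  refine ⟨fx_E 16 c_8B (by decide +kernel), ?_⟩
  have h1 : IsConj (E 57) (E 48) := isConj_iff.2 ⟨E 192, by
    rw [mul_inv_eq_iff_eq_mul, E_mul hs (by norm_num), E_mul hs (by norm_num), c7]⟩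
  rw [bt_E, c6, ← fx_conj h1]
  exact fx_E 48 c_8A (by decide +kernel)

theorem ty_eight : ∀ i < 22, dON.ord i = 8 → i = 9 ∨ i = 10 := by decide

/-- an element of the type `9` which is mapped to the type `10` -/
theorem exists_swap {T : TD ON dON} (hr : Rat T) : ∃ x : ON, T.ty x = 9 ∧ T.ty (bt hON x) = 10 := by
  have := finite_ON
  have h1 : orderOf (bt hON (E 16)) = 8 := by rw [MulEquiv.orderOf_eq, ord16]
  have h2 : T.ty (E 16) ≠ T.ty (bt hON (E 16)) := fun h => by
    obtain ⟨k, hk⟩ := hr _ _ h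
    have h3 := fx_conj hk
    rw [fx_pow (coprime_of_conj (ord16.trans h1.symm) hk), fx_ne.1, fx_ne.2] at h3
    omega
  rcases ty_eight _ (T.lt (E 16)) ((T.ord _).symm.trans ord16) with h3 | h3 <;>
    rcases ty_eight _ (T.lt (bt hON (E 16))) ((T.ord _).symm.trans h1) with h4 | h4
  · exact absurd (h3.trans h4.symm) h2
  · exact ⟨_, h3, h4⟩
  · exact ⟨_, h4, by rw [bt_bt', h3]⟩
  · exact absurd (h3.trans h4.symm) h2

theorem row_val {T : TD ON dON} {χ : ℕ → ON → ℂ} (h : Rel T tabON χ) {j : ℕ} {v : List ℤ} (hv : ([(j, 1)], v) ∈ tabON.rel)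
    {g : ON} {t : ℕ} (hg : T.ty g = t) : χ j g = ((v.getD t 0 : ℤ) : ℂ) := by
  have h1 := h _ hv g
  rw [hg] at h1
  simpa using h1

theorem f0_bt : f0 (bt hON) = 4 := by
  obtain ⟨T, -, hr, -, χ, hE, hR⟩ := exists_tab
  obtain ⟨x, h9, h10⟩ := exists_swap hr
  have hne : ∀ (j : ℕ) (v : List ℤ), ([(j, 1)], v) ∈ tabON.rel → v.getD 10 0 ≠ v.getD 9 0 →
      ¬ ∀ g, χ j (bt hON g) = χ j g := fun j v hv h1 h2 => by
    have h3 := h2 x
    rw [row_val hR hv h9, row_val hR hv h10] at h3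
    exact h1 (Int.cast_injective h3)
  have h11 : ∀ g, χ 11 (bt hON g) = χ 11 g := by
    obtain ⟨i, hi, hd, he⟩ := enum_perm hE (bt hON) (j := 11) (by decide)
    have h1 : ∀ i < tabON.n, tabON.d i = tabON.d 11 → i = 11 ∨ i = 12 ∨ i = 13 := by decide
    have r11 : ([(11, 1)], [58311, 71, -9, 71, 7, 1, -1, 1, 1, -1, -1, 1, 0, -1, 1, 1, -1, -1, 0, 1, 1, 0]) ∈ tabON.rel := by
      decide
    rcases h1 i hi hd with rfl | rfl | rfl
    · exact he
    · have h2 := he x
      rw [row_val hR r11 h10, row_val hR (v := [58311, 71, -9, -1, -1, 1, -1, 1, 1, 3, -1, 1, 0, -1, 1, 1, -1, 1, 0, -1, -1, 0])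
        (by decide) h9] at h2
      exact absurd (Int.cast_injective h2) (by decide)
    · have h2 := he (bt hON x)
      rw [bt_bt', row_val hR r11 h9,
        row_val hR (v := [58311, 71, -9, -1, -1, 1, -1, 1, 1, -1, 3, 1, 0, -1, 1, 1, 1, -1, 0, -1, -1, 0]) (by decide) h10] at h2
      exact absurd (Int.cast_injective h2) (by decide)
  rw [f0_enum hE (q := fun j => j == 0 || j == 11 || j == 14 || j == 18) fun j hj ho => ?_]
  · decide
  have h1 : ∀ j < tabON.n, tabON.d j % 2 = 1 → j = 0 ∨ j = 7 ∨ j = 8 ∨ j = 11 ∨ j = 12 ∨ j = 13 ∨ j = 14 ∨ j = 18 := by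
    decide
  rcases h1 j hj (Nat.odd_iff.1 ho) with rfl | rfl | rfl | rfl | rfl | rfl | rfl | rfl
  · exact iff_of_true (enum_fix hE _ hj (by decide)) rfl
  · exact iff_of_false (hne 7 [32395, 75, -5, 35, 3, 0, 3, 6, -1, 3, -1, 0, 0, -1, -2, 0, 1, -1, 0, 0, 0, 0] (by decide)
      (by decide)) (by decide)
  · exact iff_of_false (hne 8 [32395, 75, -5, 35, 3, 0, 3, 6, -1, -1, 3, 0, 0, -1, -2, 0, -1, 1, 0, 0, 0, 0] (by decide)
      (by decide)) (by decide)
  · exact iff_of_true h11 rfl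
  · exact iff_of_false (hne 12 [58311, 71, -9, -1, -1, 1, -1, 1, 1, 3, -1, 1, 0, -1, 1, 1, -1, 1, 0, -1, -1, 0] (by decide)
      (by decide)) (by decide)
  · exact iff_of_false (hne 13 [58311, 71, -9, -1, -1, 1, -1, 1, 1, -1, 3, 1, 0, -1, 1, 1, 1, -1, 0, -1, -1, 0] (by decide)
      (by decide)) (by decide)
  · exact iff_of_true (enum_fix hE _ hj (by decide)) rfl
  · exact iff_of_true (enum_fix hE _ hj (by decide)) rfl

theorem k0_ON : k0 ON = 8 := by
  rw [k0_of_degList TAB.ON.deg]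
  decide

theorem m0 : M0 ON := by
  have := finite_ON
  obtain ⟨Q, hQ⟩ := exists_Q
  refine M0.of_one Q ?_
  rw [hQ, norm_eq, k0_two two_T, ab_T, k0_ON]

end ONRow

/-- **the row of `O'N`** -/
theorem on : SmS Spor.ON := fun _ => by
  have := KFacts.ON.Cent.finite_ON
  obtain ⟨Q, hQ⟩ := ONRow.exists_Q
  refine sm_of_two' (UGT.C.BalON.center_eq_bot KFacts.ON.Cent.hON) S2078.result Q
    (S2078.bt_not_inner KFacts.ON.Cent.hON) (fun x => by rw [hQ]; exact ONRow.stab x) ONRow.m0 ?_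
  rw [hQ, ONRow.norm_eq, ONRow.fN_T, ONRow.f0_bt]

end Cfsg.Agent.MK.S5
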